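import Mathlib

/-!
# Finite extensions avoiding a given nonzero element over a transcendental base
-/

set_option autoImplicit false
set_option linter.style.haveILetI false
set_option backward.isDefEq.respectTransparency false

universe u

open scoped TensorProduct

noncomputable section

namespace Groth.Agent.FieldDesc

variable {L : Type u} [Field L] {n : ℕ}

/-- Kronecker substitution of exponent `D` -/
def kron (L : Type u) [Field L] (n D : ℕ) : MvPolynomial (Fin n) L →ₐ[L] Polynomial L :=
  MvPolynomial.aeval fun i => Polynomial.X ^ (D ^ (i : ℕ))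

theorem kron_monomial (D : ℕ) (α : Fin n →₀ ℕ) (c : L) :
    kron L n D (MvPolynomial.monomial α c) = Polynomial.monomial (∑ i, α i * D ^ (i : ℕ)) c := by
  rw [kron, MvPolynomial.aeval_monomial, Finsupp.prod_fintype _ _ (fun _ => pow_zero _)]
  simp only [← pow_mul, Finset.prod_pow_eq_pow_sum, Polynomial.C_mul_X_pow_eq_monomial.symm, Polynomial.algebraMap_eq]
  simp [mul_comm]

theorem exists_kron_ne_zero {p : MvPolynomial (Fin n) L} (hp : p ≠ 0) : ∃ D, kron L n D p ≠ 0 := by
  classical
  let D := p.totalDegree + 1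
  refine ⟨D, fun h => hp ?_⟩
  have hlt : ∀ α ∈ p.support, ∀ i, α i < D := fun α hα i => by
    refine Nat.lt_succ_of_le (le_trans ?_ (MvPolynomial.le_totalDegree hα))
    by_cases hi : i ∈ α.support
    · exact Finset.single_le_sum (fun j _ => Nat.zero_le (α j)) hi
    · simp [Finsupp.notMem_support_iff.1 hi]
  have hinj : Set.InjOn (fun α : Fin n →₀ ℕ => ∑ i, α i * D ^ (i : ℕ)) (p.support : Set (Fin n →₀ ℕ)) := by
    intro α hα β hβ e
    have e' : finFunctionFinEquiv (fun i => (⟨α i, hlt α hα i⟩ : Fin D)) = finFunctionFinEquiv (fun i => (⟨β i, hlt β hβ i⟩ : Fin D)) :=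
      Fin.ext (by simpa [finFunctionFinEquiv_apply] using e)
    ext i
    exact congrArg Fin.val (congrFun (finFunctionFinEquiv.injective e') i)
  refine MvPolynomial.ext _ _ fun α => ?_
  rw [MvPolynomial.coeff_zero]
  by_contra hα
  have hα' : α ∈ p.support := MvPolynomial.mem_support_iff.2 hα
  have := congrArg (Polynomial.coeff · (∑ i, α i * D ^ (i : ℕ))) h
  simp only [Polynomial.coeff_zero] at this
  rw [p.as_sum, map_sum, Polynomial.finsetSum_coeff] at this
  simp only [kron_monomial, Polynomial.coeff_monomial] at this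
  rw [Finset.sum_eq_single α (fun β hβ hne => if_neg fun e => hne (hinj hβ hα' e)) (fun h => absurd hα' h),
    if_pos rfl] at this
  exact hα this

/-- only finitely many algebraic numbers have minimal polynomial not prime to a given one -/
theorem exists_coprime_minpoly (k : Type u) [Field k] [Algebra k L] {h : Polynomial L} (hh : h ≠ 0) :
    ∃ θ : AlgebraicClosure k, IsCoprime ((minpoly k θ).map (algebraMap k L)) h := by
  classical
  let B : Polynomial L → Set (AlgebraicClosure k) := fun p =>
    {θ | p ∣ (minpoly k θ).map (algebraMap k L)}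
  have hB : ∀ p, Irreducible p → (B p).Finite := fun p hp => by
    rcases (B p).eq_empty_or_nonempty with h | ⟨θ₀, hθ₀⟩
    · rw [h]; exact Set.finite_empty
    refine ((minpoly k θ₀).rootSet_finite (AlgebraicClosure k)).subset fun θ hθ => ?_
    have hi₀ := minpoly.irreducible (Algebra.IsIntegral.isIntegral (R := k) θ₀)
    have hi := minpoly.irreducible (Algebra.IsIntegral.isIntegral (R := k) θ)
    by_cases hd : minpoly k θ₀ ∣ minpoly k θ
    · have : minpoly k θ₀ = minpoly k θ :=
        Polynomial.eq_of_monic_of_associated (minpoly.monic (Algebra.IsIntegral.isIntegral θ₀))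
          (minpoly.monic (Algebra.IsIntegral.isIntegral θ)) (hi₀.associated_of_dvd hi hd)
      rw [Polynomial.mem_rootSet]
      exact ⟨hi₀.ne_zero, by rw [this, minpoly.aeval]⟩
    · have hc := (hi₀.coprime_iff_not_dvd.2 hd).map (Polynomial.mapRingHom (algebraMap k L))
      exact absurd (hc.isUnit_of_dvd' hθ₀ hθ) hp.not_isUnit
  have hfin : (⋃ p ∈ (UniqueFactorizationMonoid.normalizedFactors h).toFinset, B p).Finite :=
    (Finset.finite_toSet _).biUnion fun p hp =>
      hB p (UniqueFactorizationMonoid.irreducible_of_normalized_factor p (Multiset.mem_toFinset.1 hp))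
  obtain ⟨θ, hθ⟩ := hfin.exists_notMem
  refine ⟨θ, ?_⟩
  refine isCoprime_of_irreducible_dvd (fun h' => hh h'.2) fun q hq hqm hqh => hθ ?_
  obtain ⟨p, hp, hqp⟩ := UniqueFactorizationMonoid.exists_mem_normalizedFactors_of_dvd hh hq hqh
  exact Set.mem_biUnion (Multiset.mem_toFinset.2 hp) (hqp.symm.dvd.trans hqm)

variable {k : Type u} [Field k] [Algebra k L]

/-- a finite extension at which a nonzero element over the localised polynomial ring becomes invertible -/
theorem exists_finite_unit_image (f : MvPolynomial (Fin n) k) (hf : f ≠ 0)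
    {g : L ⊗[k] Localization.Away f} (hg : g ≠ 0) :
    ∃ (κ : Type u) (_ : Field κ) (_ : Algebra k κ) (_ : Module.Finite k κ) (ρ : Localization.Away f →ₐ[k] κ),
      IsUnit (Algebra.TensorProduct.map (AlgHom.id k L) ρ g) := by
  classical
  let P := MvPolynomial (Fin n) k
  let A := Localization.Away f
  let Φ : MvPolynomial (Fin n) L →ₐ[L] L ⊗[k] A :=
    MvPolynomial.aeval fun i => (1 : L) ⊗ₜ[k] algebraMap P A (MvPolynomial.X i)
  have hΦ : ∀ p : P, Φ (MvPolynomial.map (algebraMap k L) p) = (1 : L) ⊗ₜ[k] algebraMap P A p := by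
    intro p
    induction p using MvPolynomial.induction_on with
    | C a =>
      rw [MvPolynomial.map_C, ← MvPolynomial.algebraMap_eq, AlgHom.commutes, Algebra.TensorProduct.algebraMap_apply,
        ← MvPolynomial.algebraMap_eq, ← IsScalarTower.algebraMap_apply k P A, Algebra.algebraMap_self, RingHom.id_apply]
      rw [Algebra.algebraMap_eq_smul_one, Algebra.algebraMap_eq_smul_one, TensorProduct.smul_tmul]
    | add p q hp hq => rw [map_add, map_add, hp, hq, map_add, TensorProduct.tmul_add]
    | mul_X p i hp =>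
      rw [map_mul, map_mul, hp, MvPolynomial.map_X, MvPolynomial.aeval_X, Algebra.TensorProduct.tmul_mul_tmul,
        mul_one, map_mul]
  let F : L ⊗[k] A := (1 : L) ⊗ₜ[k] algebraMap P A f
  have hnum : ∀ z : L ⊗[k] A, ∃ (N : ℕ) (p : MvPolynomial (Fin n) L), z * F ^ N = Φ p := by
    intro z
    induction z using TensorProduct.induction_on with
    | zero => exact ⟨0, 0, by simp⟩
    | tmul l a =>
      obtain ⟨⟨p, _, N, rfl⟩, hp⟩ := IsLocalization.surj (Submonoid.powers f) a
      refine ⟨N, MvPolynomial.C l * MvPolynomial.map (algebraMap k L) p, ?_⟩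
      rw [map_mul, hΦ, ← MvPolynomial.algebraMap_eq, AlgHom.commutes, Algebra.TensorProduct.algebraMap_apply,
        Algebra.TensorProduct.tmul_pow, Algebra.TensorProduct.tmul_mul_tmul, Algebra.TensorProduct.tmul_mul_tmul,
        one_pow, ← map_pow, ← hp]
      simp [map_pow]
      rfl
    | add x y hx hy =>
      obtain ⟨M, p, hp⟩ := hx
      obtain ⟨N, q, hq⟩ := hy
      refine ⟨M + N, p * MvPolynomial.map (algebraMap k L) f ^ N + q * MvPolynomial.map (algebraMap k L) f ^ M, ?_⟩
      rw [map_add, map_mul, map_mul, map_pow, map_pow, hΦ, ← hp, ← hq]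
      ring
  obtain ⟨N, p, hp⟩ := hnum g
  have hFu : IsUnit F := (IsLocalization.Away.algebraMap_isUnit f).map (Algebra.TensorProduct.includeRight : A →ₐ[k] L ⊗[k] A)
  have hp0 : p ≠ 0 := fun h => hg ((hFu.pow N).mul_left_eq_zero.1 (by rw [hp, h, map_zero]))
  have hf0 : MvPolynomial.map (algebraMap k L) f ≠ 0 := fun h =>
    hf (MvPolynomial.map_injective _ (algebraMap k L).injective (by rw [h, map_zero]))
  obtain ⟨D, hD⟩ := exists_kron_ne_zero (mul_ne_zero hp0 hf0)
  obtain ⟨θ, hθ⟩ := exists_coprime_minpoly k hD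
  obtain ⟨κ, _, _, _, t, ht⟩ : ∃ (κ : Type u) (_ : Field κ) (_ : Algebra k κ) (_ : Module.Finite k κ) (t : κ),
      Polynomial.aeval t (minpoly k θ) = 0 := by
    refine ⟨IntermediateField.adjoin k {θ}, inferInstance, inferInstance,
      IntermediateField.adjoin.finiteDimensional (Algebra.IsIntegral.isIntegral θ), IntermediateField.AdjoinSimple.gen k θ, ?_⟩
    refine Subtype.val_injective ?_
    refine ((Polynomial.aeval_algHom_apply (IntermediateField.adjoin k {θ}).val _ _).symm.trans ?_)
    exact minpoly.aeval k θ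
  let T : L ⊗[k] κ := (1 : L) ⊗ₜ[k] t
  let c : Fin n → κ := fun i => t ^ (D ^ (i : ℕ))
  let ev : MvPolynomial (Fin n) L →ₐ[L] L ⊗[k] κ := MvPolynomial.aeval fun i => (1 : L) ⊗ₜ[k] c i
  have hev : ∀ q, ev q = Polynomial.aeval T (kron L n D q) := fun q => by
    refine congrArg (fun φ => φ q) (MvPolynomial.algHom_ext (f := ev) (g := (Polynomial.aeval T).comp (kron L n D)) fun i => ?_)
    simp [ev, kron, T, c, Algebra.TensorProduct.tmul_pow]
  have hevm : ∀ q : P, ev (MvPolynomial.map (algebraMap k L) q) = (1 : L) ⊗ₜ[k] MvPolynomial.aeval c q := by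
    intro q
    rw [MvPolynomial.aeval_map_algebraMap]
    exact (MvPolynomial.comp_aeval_apply (Algebra.TensorProduct.includeRight : κ →ₐ[k] L ⊗[k] κ) (f := c) q).symm
  have hm : Polynomial.aeval T ((minpoly k θ).map (algebraMap k L)) = 0 := by
    rw [Polynomial.aeval_map_algebraMap]
    have : T = (Algebra.TensorProduct.includeRight : κ →ₐ[k] L ⊗[k] κ) t := rfl
    rw [this, Polynomial.aeval_algHom_apply]
    rw [ht, map_zero]
  obtain ⟨a, b, hab⟩ := hθ
  have hu : IsUnit (ev (p * MvPolynomial.map (algebraMap k L) f)) := by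
    rw [hev]
    refine isUnit_iff_exists_inv'.2 ⟨Polynomial.aeval T b, ?_⟩
    have h1 := congrArg (Polynomial.aeval T) hab
    rw [map_add, map_mul, map_mul, hm, mul_zero, zero_add, map_one] at h1
    exact h1
  rw [map_mul] at hu
  have hfc : IsUnit (MvPolynomial.aeval c f) := by
    refine (Ne.isUnit fun h0 => ?_)
    have := (IsUnit.mul_iff.1 hu).2
    rw [hevm, h0, TensorProduct.tmul_zero] at this
    exact not_isUnit_zero this
  let ρ : A →ₐ[k] κ := IsLocalization.liftAlgHom (M := Submonoid.powers f) (f := MvPolynomial.aeval c) (by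
    rintro ⟨_, m, rfl⟩
    rw [map_pow]; exact hfc.pow m)
  refine ⟨κ, inferInstance, inferInstance, inferInstance, ρ, ?_⟩
  let M := Algebra.TensorProduct.map (AlgHom.id k L) ρ
  have hρ : ∀ q : P, ρ (algebraMap P A q) = MvPolynomial.aeval c q := fun q => IsLocalization.lift_eq _ q
  have hMΦ : ∀ q, M (Φ q) = ev q := fun q => by
    induction q using MvPolynomial.induction_on with
    | C a =>
      simp only [← MvPolynomial.algebraMap_eq, AlgHom.commutes, Algebra.TensorProduct.algebraMap_apply]
      show M (_ ⊗ₜ[k] _) = _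
      rw [Algebra.TensorProduct.map_tmul, map_one]
      rfl
    | add x y hx hy => simp only [map_add, hx, hy]
    | mul_X x i hx =>
      simp only [map_mul, hx, MvPolynomial.aeval_X, ev, Φ]
      rw [Algebra.TensorProduct.map_tmul, hρ, MvPolynomial.aeval_X]
      rfl
  have h2 : IsUnit (M (g * F ^ N)) := by rw [hp, hMΦ]; exact (IsUnit.mul_iff.1 hu).1
  rw [map_mul] at h2
  exact (IsUnit.mul_iff.1 h2).1

/-- finitely generated subalgebras of a purely transcendental extension map to localised polynomial rings -/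
theorem exists_hom_away (ι : Type u) (B : Subalgebra k (FractionRing (MvPolynomial ι k))) (hB : B.FG) :
    ∃ (n : ℕ) (f : MvPolynomial (Fin n) k), f ≠ 0 ∧ Nonempty (B →ₐ[k] Localization.Away f) := by
  classical
  obtain ⟨s, rfl⟩ := hB
  let K := FractionRing (MvPolynomial ι k)
  choose a b hb hab using fun x : K => IsFractionRing.div_surjective (A := MvPolynomial ι k) x
  let V : Finset ι := s.biUnion fun x => (a x).vars ∪ (b x).vars
  let e : Fin V.card → ι := fun i => (V.equivFin.symm i : ι)
  have he : Function.Injective e := fun i j h => V.equivFin.symm.injective (Subtype.val_injective h)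
  have hr : ∀ q : MvPolynomial ι k, q.vars ⊆ V → ∃ q', MvPolynomial.rename e q' = q := fun q hq => by
    have : Set.range e = (V : Set ι) := Set.ext fun i => ⟨fun ⟨j, hj⟩ => hj ▸ (V.equivFin.symm j).2,
      fun hi => ⟨V.equivFin ⟨i, hi⟩, by simp [e]⟩⟩
    exact MvPolynomial.exists_rename_eq_of_vars_subset_range q e he (this ▸ by exact_mod_cast hq)
  have ha : ∀ x ∈ s, ∃ q', MvPolynomial.rename e q' = a x := fun x hx =>
    hr _ (Finset.subset_union_left.trans (Finset.subset_biUnion_of_mem (fun x => (a x).vars ∪ (b x).vars) hx))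
  have hb' : ∀ x ∈ s, ∃ q', MvPolynomial.rename e q' = b x := fun x hx =>
    hr _ (Finset.subset_union_right.trans (Finset.subset_biUnion_of_mem (fun x => (a x).vars ∪ (b x).vars) hx))
  choose! a' ha' using ha
  choose! b' hb'' using hb'
  let f := ∏ x ∈ s, b' x
  have hf : f ≠ 0 := Finset.prod_ne_zero_iff.2 fun x hx h0 => by
    have : b x = 0 := by rw [← hb'' x hx, h0, map_zero]
    exact nonZeroDivisors.ne_zero (hb x) this
  let φ : MvPolynomial (Fin V.card) k →ₐ[k] K := (IsScalarTower.toAlgHom k (MvPolynomial ι k) K).comp (MvPolynomial.rename e)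
  have hφ : Function.Injective φ := (IsFractionRing.injective (MvPolynomial ι k) K).comp (MvPolynomial.rename_injective e he)
  let ψ : Localization.Away f →ₐ[k] K := IsLocalization.liftAlgHom (M := Submonoid.powers f) (f := φ) (by
    rintro ⟨_, m, rfl⟩
    exact Ne.isUnit fun h => pow_ne_zero m hf (hφ (h.trans (map_zero φ).symm)))
  have hψ : ∀ q, ψ (algebraMap _ _ q) = φ q := fun q => IsLocalization.lift_eq _ q
  have hψi : Function.Injective ψ := by
    rw [injective_iff_map_eq_zero]
    intro z hz
    obtain ⟨⟨q, m⟩, hq⟩ := IsLocalization.surj (Submonoid.powers f) z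
    have h0 : φ q = 0 := by rw [← hψ, ← hq, map_mul, hz, zero_mul]
    rw [hφ (h0.trans (map_zero φ).symm), map_zero] at hq
    exact (IsLocalization.map_units _ m).mul_left_eq_zero.1 hq
  have hle : Algebra.adjoin k (s : Set K) ≤ ψ.range := Algebra.adjoin_le fun x hx => by
    have hxs : x ∈ s := hx
    obtain ⟨w, hw⟩ := isUnit_of_dvd_unit (map_dvd (algebraMap _ (Localization.Away f)) (Finset.dvd_prod_of_mem b' hxs))
      (IsLocalization.Away.algebraMap_isUnit f)
    refine ⟨algebraMap _ _ (a' x) * (w⁻¹ : (Localization.Away f)ˣ), ?_⟩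
    show ψ _ = x
    have h1 : ψ (w : Localization.Away f) = algebraMap _ K (b x) := by rw [hw, hψ, ← hb'' x hxs]; rfl
    have h2 : φ (a' x) = algebraMap _ K (a x) := by rw [← ha' x hxs]; rfl
    rw [map_mul, hψ, h2, map_units_inv, h1, ← div_eq_mul_inv]
    exact hab x
  exact ⟨V.card, f, hf, ⟨(AlgEquiv.ofInjective ψ hψi).symm.toAlgHom.comp (Subalgebra.inclusion hle)⟩⟩

end Groth.Agent.FieldDesc
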