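import Groth.Agent.FieldDesc.Spec
import Groth.Agent.FieldDesc.Kronecker
import Mathlib

/-!
# Schemes descend along purely transcendental extensions
-/

set_option autoImplicit false
set_option linter.style.haveILetI false
set_option backward.isDefEq.respectTransparency false

universe u

open CategoryTheory CategoryTheory.Limits AlgebraicGeometry

noncomputable section

namespace Groth.Agent.FieldDesc

open _root_.AlgSp Groth.Agent.AlgSpLib TensorProduct

variable {k : Type u} [Field k] {X : Sp (Spec (CommRingCat.of k))}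

/-- the product of two spectra -/
theorem isPullback_tensor (L A : Type u) [CommRing L] [CommRing A] [Algebra k L] [Algebra k A] :
    IsPullback (extHom (Algebra.TensorProduct.includeLeft : L →ₐ[k] L ⊗[k] A)).left
      (extHom (Algebra.TensorProduct.includeRight : A →ₐ[k] L ⊗[k] A)).left (Ext L).hom (Ext A).hom :=
  isPullback_SpecMap_of_isPushout _ _ _ _ (CommRingCat.isPushout_tensorProduct k L A)

/-- fibre of the base change over a field point -/
theorem isPullback_fieldPt {L : Type u} [CommRing L] [Algebra k L] (b : (yon _).obj (Ext L) ⟶ X)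
    (A : Type u) [CommRing A] [Algebra k A] :
    IsPullback ((yon _).map (extHom (Algebra.TensorProduct.includeLeft : L →ₐ[k] L ⊗[k] A)))
      (Limits.prod.lift ((yon _).map (extHom (Algebra.TensorProduct.includeLeft : L →ₐ[k] L ⊗[k] A)) ≫ b)
        ((yon _).map (extHom (Algebra.TensorProduct.includeRight : A →ₐ[k] L ⊗[k] A)))) b
      (Limits.prod.fst : bc X A ⟶ X) := by
  let S := Spec (CommRingCat.of k)
  have hT : IsTerminal ((yon S).obj (Over.mk (𝟙 S))) := Over.mkIdTerminal.isTerminalObj (yon S)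
  have sq' : IsPullback ((yon S).map (extHom (Algebra.TensorProduct.includeLeft : L →ₐ[k] L ⊗[k] A)))
      ((yon S).map (extHom (Algebra.TensorProduct.includeRight : A →ₐ[k] L ⊗[k] A)))
      ((yon S).map (Over.homMk (Ext L).hom : Ext L ⟶ Over.mk (𝟙 S)))
      ((yon S).map (Over.homMk (Ext A).hom : Ext A ⟶ Over.mk (𝟙 S))) :=
    AlgSpLib.isPullback_yon_iff.2 (isPullback_tensor L A)
  refine IsPullback.of_bot ?_ (Limits.prod.lift_fst _ _).symm (GeomPi0.isPullback_prod X (Ext A))
  rw [Limits.prod.lift_snd]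
  have e := hT.hom_ext ((yon S).map (Over.homMk (Ext L).hom : Ext L ⟶ Over.mk (𝟙 S)))
    (b ≫ (Over.mkIdTerminal.isTerminalObj (yon S)).from X)
  rw [e] at sq'
  exact sq'

/-- the key step: a scheme base change to a localised polynomial ring puts each point in an open subscheme -/
theorem exists_scheme_nhd_of_away (hX : IsAlgSpace X) {n : ℕ} (f : MvPolynomial (Fin n) k) (hf : f ≠ 0)
    {T : Over (Spec (CommRingCat.of k))} (e : (yon _).obj T ≅ bc X (Localization.Away f)) (y : Points X) :
    ∃ (V : Over (Spec (CommRingCat.of k))) (g : (yon _).obj V ⟶ X), RepWith @IsOpenImmersion g ∧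
      y ∈ Set.range (Points.map g) := by
  classical
  let A := Localization.Away f
  -- a field point
  obtain ⟨L, _, _, b, hb⟩ : ∃ (L : Type u) (_ : Field L) (_ : Algebra k L) (b : (yon _).obj (Ext L) ⟶ X),
      ∀ z : ↥(Ext (k := k) L).left, Points.ofPt b z = y := by
    obtain ⟨T₀, b₀, t, rfl⟩ := exists_ofPt y
    obtain ⟨φ, hφ⟩ := Spec.map_surjective (T₀.left.fromSpecResidueField t ≫ T₀.hom)
    let L : Type u := T₀.left.residueField t
    letI : Algebra k L := φ.hom.toAlgebra
    let i : Ext L ⟶ T₀ := Over.homMk (T₀.left.fromSpecResidueField t) hφ.symm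
    refine ⟨L, inferInstance, inferInstance, (yon _).map i ≫ b₀, fun z => ?_⟩
    rw [ofPt_comp]
    exact congrArg (Points.ofPt b₀) (Scheme.fromSpecResidueField_apply t z)
  let p : ∀ (B : Type u) [CommRing B] [Algebra k B], Ext (L ⊗[k] B) ⟶ Ext L := fun B _ _ =>
    extHom (Algebra.TensorProduct.includeLeft : L →ₐ[k] L ⊗[k] B)
  let q : ∀ (B : Type u) [CommRing B] [Algebra k B], Ext (L ⊗[k] B) ⟶ Ext (k := k) B := fun B _ _ =>
    extHom (Algebra.TensorProduct.includeRight : B →ₐ[k] L ⊗[k] B)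
  let lA := Limits.prod.lift ((yon _).map (p A) ≫ b) ((yon _).map (q A))
  haveI : Nontrivial A := (IsLocalization.injective (M := Submonoid.powers f) A
    (powers_le_nonZeroDivisors_of_noZeroDivisors hf)).nontrivial
  haveI : Nontrivial (L ⊗[k] A) :=
    (Algebra.TensorProduct.includeRight_injective (R := k) (A := L) (B := A) (algebraMap k L).injective).nontrivial
  let w₀ : PrimeSpectrum (L ⊗[k] A) := Classical.arbitrary _
  obtain ⟨U, a, hU, ha, hmem⟩ := exists_affine_open_mem e (Points.ofPt lA w₀)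
  obtain ⟨O, fst, sqO⟩ := SchImg.exists_open_pullback ha lA
  have hw₀ : w₀ ∈ O := (SchImg.mem_open_iff sqO w₀).2 (by
    obtain ⟨v, hv⟩ := hmem
    exact ⟨Points.ofScheme U v, by rw [← Points.ofPt_eq_map_ofScheme]; exact hv⟩)
  obtain ⟨_, ⟨g, rfl⟩, hgw, hgO⟩ := (PrimeSpectrum.isTopologicalBasis_basic_opens (R := L ⊗[k] A)).exists_subset_of_mem_open hw₀ O.2
  have hg : g ≠ 0 := by
    rintro rfl
    exact hgw (zero_mem _)
  obtain ⟨κ, _, _, _, ρ, hρ⟩ := exists_finite_unit_image f hf hg
  let m := bcMap X ρ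
  obtain ⟨U', fst', snd', sq', haff⟩ := exists_repWith (repWith_bcMap @IsAffineHom X ρ inferInstance) a
  haveI : IsAffineHom snd'.left := haff
  haveI : IsAffine U.left := hU
  have hU' : IsAffine U'.left := isAffine_of_isAffineHom snd'.left
  have ha' : RepWith @IsOpenImmersion fst' := repWith_baseChange sq'.flip ha
  let Xκ : Space (Spec (CommRingCat.of k)) := ⟨bc X κ, isAlgSpace_bc hX κ⟩
  let Xs : Space (Spec (CommRingCat.of k)) := ⟨X, hX⟩
  let fs : Xκ ⟶ Xs := ObjectProperty.homMk (Limits.prod.fst : bc X κ ⟶ X)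
  obtain ⟨Y', j, hj, hrep, z, hz⟩ := (S10411.result fs (repWith_fst_finLocFree κ) (repWith_fst_surjective κ) y).2
    ⟨U', fst', hU', ha', fun z hz => by
      have hcl : Points.map b (Points.ofScheme (Ext L) (IsLocalRing.closedPoint L)) = y := by
        rw [← Points.ofPt_eq_map_ofScheme]; exact hb _
      obtain ⟨w, -, hw⟩ := exists_point_of_isPullback (isPullback_fieldPt b κ) _ z (hcl.trans (hz : _ = y).symm)
      obtain ⟨w, rfl⟩ := (Points.schemeEquiv (Ext (L ⊗[k] κ))).surjective w
      let ψ := Algebra.TensorProduct.map (AlgHom.id k L) ρ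
      let jm : Ext (k := k) (L ⊗[k] κ) ⟶ Ext (k := k) (L ⊗[k] A) := extHom ψ
      have hjp : jm ≫ p A = p κ := by
        refine Over.OverMorphism.ext ?_
        show Spec.map _ ≫ Spec.map _ = Spec.map _
        rw [← Spec.map_comp]
        congr 1
        ext x
        show Algebra.TensorProduct.map (AlgHom.id k L) ρ (x ⊗ₜ[k] 1) = x ⊗ₜ[k] 1
        rw [Algebra.TensorProduct.map_tmul, map_one]
        rfl
      have hjq : jm ≫ q A = q κ ≫ extHom ρ := by
        refine Over.OverMorphism.ext ?_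
        show Spec.map _ ≫ Spec.map _ = Spec.map _ ≫ Spec.map _
        rw [← Spec.map_comp, ← Spec.map_comp]
        congr 1
      have hl : (yon _).map jm ≫ lA =
          Limits.prod.lift ((yon _).map (p κ) ≫ b) ((yon _).map (q κ)) ≫ m := by
        apply Limits.prod.hom_ext
        · simp only [m, bcMap]
          rw [Category.assoc, Category.assoc, Limits.prod.lift_fst, Limits.prod.map_fst, Category.comp_id,
            Limits.prod.lift_fst, ← Functor.map_comp_assoc, hjp]
        · simp only [m, bcMap]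
          rw [Category.assoc, Category.assoc, Limits.prod.lift_snd, Limits.prod.map_snd, Limits.prod.lift_snd_assoc,
            ← Functor.map_comp, ← Functor.map_comp, hjq]
      have hjO : jm.left w ∈ O := hgO (fun h => (w : PrimeSpectrum (L ⊗[k] κ)).2.ne_top (Ideal.eq_top_of_isUnit_mem _ h hρ))
      obtain ⟨x, hx⟩ := (SchImg.mem_open_iff sqO _).1 hjO
      have hzm : Points.map a x = Points.map m z := by
        rw [hx, ← ofPt_comp, hl, ← hw]
        exact (Points.map_ofPt _ _ _).symm.trans (congrArg (Points.map m) (Points.ofPt_eq_map_ofScheme _ _))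
      obtain ⟨r, hr, -⟩ := exists_point_of_isPullback sq' z x hzm.symm
      obtain ⟨r, rfl⟩ := (Points.schemeEquiv U').surjective r
      exact ⟨r, (Points.ofPt_eq_map_ofScheme _ _).trans hr⟩⟩
  obtain ⟨V, ⟨θ⟩⟩ := SpDesc.exists_yon_iso hrep
  refine ⟨V, θ.hom ≫ j.hom, (repWith_iso_comp_iff θ.hom _).2 hj, Points.map θ.inv z, ?_⟩
  rw [← Points.map_comp, Iso.inv_hom_id_assoc]
  exact hz

/-- purely transcendental descent -/
theorem exists_iso_yon_of_transcendental (hX : IsAlgSpace X) (hs : IsQuasiSeparatedSp X) (ι : Type u)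
    {T : Over (Spec (CommRingCat.of k))} (e : (yon _).obj T ≅ bc X (FractionRing (MvPolynomial ι k))) :
    ∃ W : Over (Spec (CommRingCat.of k)), Nonempty (X ≅ (yon _).obj W) := by
  obtain ⟨J, G, j, hG, hcov⟩ := exists_qc_cover hX hs
  have hloc : ∀ x : Points X, ∃ (V : Over (Spec (CommRingCat.of k))) (g : (yon _).obj V ⟶ X),
      RepWith @IsOpenImmersion g ∧ x ∈ Set.range (Points.map g) := fun x => by
    obtain ⟨i, w, rfl⟩ := hcov x
    obtain ⟨hGa, hGq, hGs, hj⟩ := hG i
    obtain ⟨T₁, ⟨e₁⟩⟩ := exists_iso_yon_bc_subspace (j i) hj.1 e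
    obtain ⟨B, hB, T₂, ⟨e₂⟩⟩ := exists_fg_stage hGa hGq hGs _ e₁
    obtain ⟨n, f, hf, ⟨φ⟩⟩ := exists_hom_away ι B hB
    obtain ⟨T₃, ⟨e₃⟩⟩ := exists_iso_yon_bc_map φ e₂
    obtain ⟨V, g, hg, v, hv⟩ := exists_scheme_nhd_of_away hGa f hf e₃ w
    exact ⟨V, g ≫ j i, repWith_comp hg hj, v, by rw [Points.map_comp, hv]⟩
  obtain ⟨U, π, -, hπ⟩ := hX.atlas
  choose V g hg hmem using fun u : ↥U.left => hloc (Points.ofPt π u)
  refine exists_iso_yon_of_open_cover hX V g hg fun y => ?_
  obtain ⟨u, rfl⟩ := ofPt_surjective hπ y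
  exact ⟨u, hmem u⟩

end Groth.Agent.FieldDesc
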