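import Groth.Agent.FieldDesc.Spec
import Groth.Agent.FieldDesc.Transc
import Groth.Agent.SpDesc.SchemeStage
import Groth.Agent.SpQS.Jacob
import Groth.Agent.SpQS.NoethDecent
import Groth.Agent.SpQS.DimField
import Groth.Agent.AlgSpLib.NoethPts
import Mathlib

/-!
# Decent spaces over a field with enough affines over the algebraic closure
-/

set_option autoImplicit false
set_option linter.style.haveILetI false
set_option backward.isDefEq.respectTransparency false

universe u

open CategoryTheory CategoryTheory.Limits AlgebraicGeometry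

noncomputable section

namespace Groth.Agent.FieldDesc

open _root_.AlgSp Groth.Agent.AlgSpLib TensorProduct

theorem exists_affine_open_stage {S : Scheme.{u}} {I : Type u} [SmallCategory I] [IsCofiltered I]
    [QuasiSeparatedSpace ↥S] (D : I ⥤ Sp S) (hD : ∀ i, IsAlgSpace (D.obj i))
    (hDa : ∀ (i j : I) (φ : i ⟶ j), IsAffineMor (D.map φ))
    (hqc : ∀ i, IsQuasiCompactSp (D.obj i)) (hqs : ∀ i, IsQuasiSeparatedSp (D.obj i))
    (c : Cone D) (hc : IsLimit c) {Wo : Over S} [IsAffine Wo.left] (a : (yon S).obj Wo ⟶ c.pt)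
    (ha : RepWith @IsOpenImmersion a) :
    ∃ (l : I) (V : Over S) (g : (yon S).obj V ⟶ D.obj l), IsAffine V.left ∧ RepWith @IsOpenImmersion g ∧
      ∀ z, Points.map (c.π.app l) (Points.ofPt a z) ∈ Set.range (Points.ofPt g) := by
  obtain ⟨i, Ui, ji, q, hji, hUq, hsq⟩ :=
    SchImg.exists_qc_open_subspace_stage D hD hDa c hc a ha (isQuasiCompactSp_yon _)
  have hmono : Mono ji := mono_of_repWith_immersion (repWith_mono (P := @IsOpenImmersion) (Q := @IsImmersion)
    (fun _ _ g hg => have : IsOpenImmersion g := hg; inferInstance) hji)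
  have hU : IsAlgSpace Ui := isAlgSpace_of_repBySp (Representable.repBySp hji.1) (hD _)
  have hUs : IsQuasiSeparatedSp Ui := isQuasiSeparatedSp_of_mor
    (ValLib.isQuasiSeparatedMor_of_separated _ (UnivInjMor.isSeparatedMor_of_mono ji)) (hqs _)
  obtain ⟨E, cE, α, β, αL, βL, ⟨hcE⟩, hE, hEa, hEsq, hEL, -, -⟩ :=
    SpDesc.exists_bc_tower D hD hDa c hc i (hqc _) (hqs _) (hD i) hU (hqs _) hUq hUs (𝟙 _) ji
  rw [Category.comp_id] at hEL
  let t : Over i := Over.mk (𝟙 _)
  obtain ⟨l₀, hl₀⟩ := SpDesc.exists_affine_stage E (fun l => (hE l).1) hEa cE hcE t (hE t).2.1 (fun l => (hE l).2.2)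
    (T := Wo) (hsq.isoIsPullback _ _ hEL)
  obtain ⟨V, hV, ⟨θ⟩⟩ := hl₀ l₀ (𝟙 _)
  have hsq' := hEsq l₀
  rw [Category.comp_id] at hsq'
  refine ⟨l₀.left, V, θ.hom ≫ α l₀, hV, (repWith_iso_comp_iff θ.hom _).2 (repWith_baseChange hsq'.flip hji), fun z => ?_⟩
  obtain ⟨p, hp, -⟩ := exists_point_of_isPullback hsq' (Points.map (c.π.app l₀.left) (Points.ofPt a z))
    (Points.map q (Points.ofScheme Wo z)) (by
      rw [← Points.map_comp, c.w, Points.map_ofPt, hsq.w, ← Points.map_comp]
      exact Points.ofPt_eq_map_ofScheme _ _)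
  obtain ⟨v, hv⟩ := (Points.schemeEquiv V).surjective (Points.map θ.inv p)
  refine ⟨v, ?_⟩
  rw [Points.ofPt_eq_map_ofScheme, show Points.ofScheme V v = Points.map θ.inv p from hv, ← Points.map_comp,
    Iso.inv_hom_id_assoc, hp]

variable {k : Type u} [Field k] {X : Sp (Spec (CommRingCat.of k))}

theorem finite_tensor_right (L K : Type u) [CommRing L] [CommRing K] [Algebra k L] [Algebra k K] [Module.Finite k L] :
    letI : Algebra K (L ⊗[k] K) := Algebra.TensorProduct.rightAlgebra
    Module.Finite K (L ⊗[k] K) := by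
  letI : Algebra K (L ⊗[k] K) := Algebra.TensorProduct.rightAlgebra
  refine RingHom.finite_algebraMap.1 ?_
  have e : algebraMap K (L ⊗[k] K) =
      (Algebra.TensorProduct.comm k K L).toAlgHom.toRingHom.comp (algebraMap K (K ⊗[k] L)) :=
    RingHom.ext fun x => by simp [Algebra.TensorProduct.algebraMap_apply]; rfl
  rw [e]
  exact (RingHom.Finite.of_surjective _ (Algebra.TensorProduct.comm k K L).surjective).comp
    (RingHom.finite_algebraMap.2 inferInstance)

/-- the scheme neighbourhood from an affine open over the algebraic closure containing the fibre -/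
theorem exists_scheme_nhd_of_fibre (hX : IsAlgSpace X) (hs : IsQuasiSeparatedSp X) (K : Type u) [Field K]
    [Algebra k K] [Algebra.IsAlgebraic k K] {Wo : Over (Spec (CommRingCat.of k))} [IsAffine Wo.left]
    (a : (yon _).obj Wo ⟶ bc X K) (ha : RepWith @IsOpenImmersion a) (x : Points X)
    (hfib : Points.map Limits.prod.fst ⁻¹' {x} ⊆ Set.range (Points.ofPt a)) :
    ∃ (V : Over (Spec (CommRingCat.of k))) (g : (yon _).obj V ⟶ X), RepWith @IsOpenImmersion g ∧
      x ∈ Set.range (Points.map g) := by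
  let q : bc X K ⟶ X := Limits.prod.fst
  have hopen : IsOpenMap (Points.map q) :=
    isUnivOpenMor_to_field (IsAlgSpace.yon_obj (Ext K)) (𝟙 _) ((yon _).map (Over.homMk (Ext K).hom)) hX
      ((Over.mkIdTerminal.isTerminalObj (yon _)).from X) Limits.prod.snd Limits.prod.fst (GeomPi0.isPullback_prod X (Ext K)).flip
  let W : Set (Points X) := Points.map q '' Set.range (Points.map a)
  have hW : IsOpen W := by
    refine hopen _ ?_
    rw [Points.isOpen_iff]
    intro T' g
    obtain ⟨W', fst, sq⟩ := SchImg.exists_open_pullback ha g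
    rw [show Points.ofPt g ⁻¹' Set.range (Points.map a) = (W' : Set T'.left) from
      Set.ext fun t => (SchImg.mem_open_iff sq t).symm]
    exact W'.2
  have hWs := isAlgSpace_subSheaf hX hW
  have hsW : IsQuasiSeparatedSp (subSheaf W) := isQuasiSeparatedSp_of_mor
    (ValLib.isQuasiSeparatedMor_of_separated _ (UnivInjMor.isSeparatedMor_of_mono (subInc W))) hs
  let j : bc (subSheaf W) K ⟶ bc X K := Limits.prod.map (subInc W) (𝟙 _)
  have sq := isPullback_bc_of_mono (subInc W) K
  have hj : RepWith @IsOpenImmersion j := repWith_baseChange sq.flip (repWith_subInc hW)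
  haveI : Mono j := mono_of_repWith_immersion (repWith_mono (P := @IsOpenImmersion) (Q := @IsImmersion)
    (fun _ _ g hg => have : IsOpenImmersion g := hg; inferInstance) hj)
  obtain ⟨a', ha'⟩ := (exists_factor_iff (isAlgSpace_bc hWs K) (isAlgSpace_bc hX K) j hj a).2 (by
    rintro _ ⟨z, rfl⟩
    obtain ⟨w, hw⟩ : Points.map q (Points.map a z) ∈ Set.range (Points.map (subInc W)) := by
      rw [range_subInc]
      exact ⟨_, ⟨z, rfl⟩, rfl⟩
    obtain ⟨p, hp, -⟩ := exists_point_of_isPullback sq _ w hw.symm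
    exact ⟨p, hp⟩)
  have ha'o : RepWith @IsOpenImmersion a' := by
    have hsq : IsPullback (𝟙 ((yon _).obj Wo)) a' a j := by
      refine IsPullback.of_isLimit' ⟨by rw [Category.id_comp, ha']⟩
        (PullbackCone.IsLimit.mk _ (fun c => c.fst) (fun c => Category.comp_id _) (fun c => ?_) ?_)
      · rw [← cancel_mono j, Category.assoc, ha', c.condition]
      · intro c m h₁ _
        rw [← h₁, Category.comp_id]
    exact repWith_baseChange hsq ha
  have hW' : W = Set.range (Points.map (a ≫ q)) := by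
    rw [show Points.map (a ≫ q) = Points.map q ∘ Points.map a from funext fun z => Points.map_comp _ _ z, Set.range_comp]
  have hqW : IsQuasiCompactSp (subSheaf W) := by
    refine isQuasiCompactSp_of_isSurjectiveMor hWs (a' ≫ Limits.prod.fst) (fun w => ?_) (isQuasiCompactSp_yon Wo)
    obtain ⟨_, ⟨z, rfl⟩, hz⟩ := map_subInc_mem w
    refine ⟨z, SpQS.injective_points_of_mono (subInc W) ?_⟩
    rw [← Points.map_comp, Category.assoc, ← sq.w, ← Category.assoc, ha', Points.map_comp]
    exact hz
  let J := {E : IntermediateField k K // FiniteDimensional k E}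
  haveI : Nonempty J := ⟨⟨⊥, inferInstance⟩⟩
  haveI : IsDirectedOrder J := ⟨fun E F => by
    haveI := E.2
    haveI := F.2
    exact ⟨⟨E.1 ⊔ F.1, inferInstance⟩, (le_sup_left : E.1 ≤ E.1 ⊔ F.1), (le_sup_right : F.1 ≤ E.1 ⊔ F.1)⟩⟩
  haveI : IsCofiltered Jᵒᵖ := isCofiltered_op_of_isFiltered _
  let A : J → Subalgebra k K := fun E => E.1.toSubalgebra
  have hA : Monotone A := fun E F h => h
  have hU : ∀ x : K, ∃ E, x ∈ A E := fun x =>
    ⟨⟨IntermediateField.adjoin k {x}, IntermediateField.adjoin.finiteDimensional (Algebra.IsIntegral.isIntegral x)⟩,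
      IntermediateField.mem_adjoin_simple_self k x⟩
  obtain ⟨hl⟩ := nonempty_bcIsLimit A hA hU (subSheaf W)
  obtain ⟨l, V, g, hV, hg, hmem⟩ := exists_affine_open_stage (bcDiagram A hA (subSheaf W)) (fun j => isAlgSpace_bc hWs _)
    (fun i j h => (isAffineMor_iff_repWith _).2 (repWith_bcMap @IsAffineHom _ (Subalgebra.inclusion (hA (leOfHom h.unop))) inferInstance))
    (fun j => (qcqs_bc hWs hqW hsW _).1) (fun j => (qcqs_bc hWs hqW hsW _).2) (bcCone A hA (subSheaf W)) hl a' ha'o
  haveI := l.unop.2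
  haveI : Module.Finite k (A l.unop) := l.unop.2
  obtain ⟨z₀, hz₀⟩ := isSurjectiveMor_of_repWith (repWith_fst_surjective (X := X) K) x
  obtain ⟨v₀, hv₀⟩ := hfib (show z₀ ∈ Points.map Limits.prod.fst ⁻¹' {x} from hz₀)
  obtain ⟨x₀, hx₀⟩ : x ∈ Set.range (Points.map (subInc W)) := by
    rw [range_subInc]
    exact ⟨z₀, ⟨Points.ofScheme Wo v₀, by rw [← Points.ofPt_eq_map_ofScheme]; exact hv₀⟩, hz₀⟩
  let Xl : Space (Spec (CommRingCat.of k)) := ⟨bc (subSheaf W) (A l.unop), isAlgSpace_bc hWs _⟩
  let Xw : Space (Spec (CommRingCat.of k)) := ⟨subSheaf W, hWs⟩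
  let fs : Xl ⟶ Xw := ObjectProperty.homMk (Limits.prod.fst : bc (subSheaf W) (A l.unop) ⟶ subSheaf W)
  have hπs : RepWith @Surjective (bcMap (subSheaf W) (A l.unop).val) := repWith_bcMap @Surjective _ _
    ⟨fun p => ⟨(IsLocalRing.closedPoint K : PrimeSpectrum K),
      (inferInstance : Subsingleton (PrimeSpectrum ↥l.unop.1)).elim _ _⟩⟩
  obtain ⟨Y', j', hj', hrep, z, hz⟩ := (S10411.result fs (repWith_fst_finLocFree _) (repWith_fst_surjective _) x₀).2
    ⟨V, g, hV, hg, fun r hr => by
      obtain ⟨p, hp⟩ := isSurjectiveMor_of_repWith hπs r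
      have hpx : Points.map q (Points.map j p) = x := by
        rw [← Points.map_comp, show j ≫ q = Limits.prod.fst ≫ subInc W from sq.w, Points.map_comp,
          show Points.map (Limits.prod.fst : bc (subSheaf W) K ⟶ _) p = x₀ from ?_, hx₀]
        rw [show x₀ = Points.map Limits.prod.fst r from (hr : _ = _).symm, ← hp, ← Points.map_comp, bcMap,
          Limits.prod.map_fst, Category.comp_id]
      obtain ⟨v, hv⟩ := hfib hpx
      have : Points.ofPt a' v = p := SpQS.injective_points_of_mono j (by rw [Points.map_ofPt, ha']; exact hv)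
      rw [← hp, ← this]
      exact hmem v⟩
  obtain ⟨V', ⟨θ⟩⟩ := SpDesc.exists_yon_iso hrep
  refine ⟨V', θ.hom ≫ j'.hom ≫ subInc W, (repWith_iso_comp_iff θ.hom _).2 (repWith_comp hj' (repWith_subInc hW)), Points.map θ.inv z, ?_⟩
  rw [← Points.map_comp, Iso.inv_hom_id_assoc, Points.map_comp]
  exact (congrArg _ hz).trans hx₀

/-- decent spaces locally of finite type over a field with enough affine opens over the algebraic closure -/
theorem exists_iso_yon_of_enough_affines (hX : IsAlgSpace X) (hdec : IsDecent X)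
    (p : X ⟶ (yon _).obj (Over.mk (𝟙 _))) (hp : LocP @LocallyOfFiniteType p)
    (K : Type u) [Field K] [Algebra k K] [IsAlgClosure k K]
    {T : Over (Spec (CommRingCat.of k))} (e : (yon _).obj T ≅ bc X K) (q : T ⟶ Ext K)
    (hq : (yon _).map q = e.hom ≫ Limits.prod.snd)
    (h3 : ∀ s : Finset ↥T.left,
      (∀ t ∈ s, ∃ σ : Spec (CommRingCat.of K) ⟶ T.left, σ ≫ q.left = 𝟙 _ ∧ σ (IsLocalRing.closedPoint K) = t) →
        ∃ W : T.left.Opens, IsAffineOpen W ∧ ∀ t ∈ s, t ∈ W) :
    ∃ W : Over (Spec (CommRingCat.of k)), Nonempty (X ≅ (yon _).obj W) := by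
  classical
  haveI : IsAlgClosed K := IsAlgClosure.isAlgClosed k
  haveI : Algebra.IsAlgebraic k K := IsAlgClosure.isAlgebraic
  obtain ⟨U, π, hπ, hπs⟩ := hX.atlas
  haveI : LocallyOfFiniteType U.hom := SpQS.chart_lft p hp hπ
  haveI : IsLocallyNoetherian U.left := LocallyOfFiniteType.isLocallyNoetherian U.hom
  haveI : JacobsonSpace U.left := LocallyOfFiniteType.jacobsonSpace U.hom
  have hgood := SpQS.goodAt_of_isDecent hX hdec
  have hs : IsQuasiSeparatedSp X := SpQS.isQuasiSeparatedSp_of_noetherian hX hgood hπ hπs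
  haveI : JacobsonSpace (Points X) := (SpQS.jacobson_iff hX hgood).1 ⟨U, π, hπ, hπs, inferInstance⟩
  have hclosed : ∀ x : Points X, IsClosed ({x} : Set (Points X)) →
      ∃ (V : Over (Spec (CommRingCat.of k))) (g : (yon _).obj V ⟶ X), RepWith @IsOpenImmersion g ∧
        x ∈ Set.range (Points.map g) := fun x hx => by
    obtain ⟨u, rfl⟩ := ofPt_surjective hπs x
    have hu : IsClosed ({u} : Set U.left) := SpQS.isClosed_chart_of_isClosed hX hgood hπ hx
    let L : Type u := U.left.residueField u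
    obtain ⟨φ, hφ⟩ := Spec.map_surjective (U.left.fromSpecResidueField u ≫ U.hom)
    letI : Algebra k L := φ.hom.toAlgebra
    haveI : Module.Finite k L := by
      have : IsFinite (U.left.fromSpecResidueField u ≫ U.hom) := by
        rw [isClosed_singleton_iff_isClosedImmersion] at hu
        rw [isFinite_iff_locallyOfFiniteType_of_jacobsonSpace]
        infer_instance
      rw [← hφ, IsFinite.SpecMap_iff] at this
      exact this
    let i : Ext L ⟶ U := Over.homMk (U.left.fromSpecResidueField u) hφ.symm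
    let b := (yon _).map i ≫ π
    have hb : ∀ z : ↥(Ext (k := k) L).left, Points.ofPt b z = Points.ofPt π u := fun z => by
      rw [ofPt_comp]
      exact congrArg (Points.ofPt π) (Scheme.fromSpecResidueField_apply u z)
    let l := Limits.prod.lift ((yon _).map (extHom (Algebra.TensorProduct.includeLeft : L →ₐ[k] L ⊗[k] K)) ≫ b)
      ((yon _).map (extHom (Algebra.TensorProduct.includeRight : K →ₐ[k] L ⊗[k] K)))
    obtain ⟨m, hm⟩ := exists_map_eq (l ≫ e.inv)
    have hfin : Finite (PrimeSpectrum (L ⊗[k] K)) := by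
      letI : Algebra K (L ⊗[k] K) := Algebra.TensorProduct.rightAlgebra
      haveI : Module.Finite K (L ⊗[k] K) := finite_tensor_right L K
      haveI : IsArtinianRing (L ⊗[k] K) := IsArtinianRing.of_finite K _
      infer_instance
    haveI := Fintype.ofFinite (PrimeSpectrum (L ⊗[k] K))
    obtain ⟨W, hW, hmem⟩ := h3 (Finset.univ.image fun w : PrimeSpectrum (L ⊗[k] K) => m.left w) (by
      intro t ht
      obtain ⟨w, -, rfl⟩ := Finset.mem_image.1 ht
      letI : Algebra K (L ⊗[k] K) := Algebra.TensorProduct.rightAlgebra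
      haveI : Module.Finite K (L ⊗[k] K) := finite_tensor_right L K
      haveI : IsArtinianRing (L ⊗[k] K) := IsArtinianRing.of_finite K _
      haveI : w.asIdeal.IsMaximal := IsArtinianRing.isMaximal_of_isPrime _
      letI : Field ((L ⊗[k] K) ⧸ w.asIdeal) := Ideal.Quotient.field _
      haveI : Module.Finite K ((L ⊗[k] K) ⧸ w.asIdeal) := Module.Finite.of_surjective (Ideal.Quotient.mkₐ K w.asIdeal).toLinearMap Ideal.Quotient.mk_surjective
      let eK : K ≃ₐ[K] (L ⊗[k] K) ⧸ w.asIdeal := AlgEquiv.ofBijective (Algebra.ofId K _)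
        ⟨(algebraMap K _).injective, (IsAlgClosed.algebraMap_bijective_of_isIntegral).2⟩
      let ψ : L ⊗[k] K →+* K := eK.symm.toAlgHom.toRingHom.comp (Ideal.Quotient.mk w.asIdeal)
      have hψ : ψ.comp (Algebra.TensorProduct.includeRight : K →ₐ[k] L ⊗[k] K).toRingHom = RingHom.id K :=
        RingHom.ext fun x => eK.symm.commutes x
      have hker : RingHom.ker ψ = w.asIdeal := by
        rw [RingHom.ker_comp_of_injective _ eK.symm.injective, Ideal.mk_ker]
      refine ⟨Spec.map (CommRingCat.ofHom ψ) ≫ m.left, ?_, ?_⟩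
      · have hmq : m ≫ q = extHom (Algebra.TensorProduct.includeRight : K →ₐ[k] L ⊗[k] K) := (yon _).map_injective (by
          rw [Functor.map_comp, hm, hq, Category.assoc, Iso.inv_hom_id_assoc, Limits.prod.lift_snd])
        rw [Category.assoc, ← Over.comp_left, hmq, extHom_left, ← Spec.map_comp, ← CommRingCat.ofHom_comp, hψ]
        exact Spec.map_id _
      · rw [Scheme.Hom.comp_apply]
        congr 1
        refine PrimeSpectrum.ext ?_
        show Ideal.comap ψ (IsLocalRing.closedPoint K).asIdeal = w.asIdeal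
        rw [← hker]
        show Ideal.comap ψ (IsLocalRing.maximalIdeal K) = _
        rw [IsLocalRing.maximalIdeal_eq_bot]
        rfl)
    let Wo : Over (Spec (CommRingCat.of k)) := Over.mk (W.ι ≫ T.hom)
    haveI : IsAffine Wo.left := hW
    let a : (yon _).obj Wo ⟶ bc X K := (yon _).map (Over.homMk W.ι rfl : Wo ⟶ T) ≫ e.hom
    have ha : RepWith @IsOpenImmersion a := (repWith_comp_iso_iff _ e.hom).2
      ((repWith_yon_iff _).2 (inferInstanceAs (IsOpenImmersion W.ι)))
    refine exists_scheme_nhd_of_fibre hX hs K a ha _ fun z hz => ?_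
    have hcl : Points.map b (Points.ofScheme (Ext L) (IsLocalRing.closedPoint L)) = Points.ofPt π u := by
      rw [← Points.ofPt_eq_map_ofScheme]; exact hb _
    obtain ⟨w, -, hw⟩ := exists_point_of_isPullback (isPullback_fieldPt b K) _ z (hcl.trans (hz : _ = Points.ofPt π u).symm)
    obtain ⟨w, rfl⟩ := (Points.schemeEquiv (Ext (L ⊗[k] K))).surjective w
    refine ⟨⟨m.left w, hmem _ (Finset.mem_image_of_mem (fun w : PrimeSpectrum (L ⊗[k] K) => m.left w) (Finset.mem_univ _))⟩, ?_⟩
    rw [← hw, ofPt_comp]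
    show Points.ofPt e.hom (m.left w) = _
    rw [← ofPt_comp, hm, Category.assoc, Iso.inv_hom_id, Category.comp_id]
    exact Points.ofPt_eq_map_ofScheme _ _
  have hloc : ∀ x : Points X, ∃ (V : Over (Spec (CommRingCat.of k))) (g : (yon _).obj V ⟶ X),
      RepWith @IsOpenImmersion g ∧ x ∈ Set.range (Points.map g) := fun x => by
    let SL : Set (Points X) := {y | ∃ (V : Over (Spec (CommRingCat.of k))) (g : (yon _).obj V ⟶ X),
      RepWith @IsOpenImmersion g ∧ y ∈ Set.range (Points.map g)}
    have ho : IsOpen SL := by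
      rw [isOpen_iff_forall_mem_open]
      rintro y ⟨V, g, hg, hy⟩
      refine ⟨_, fun y' hy' => ⟨V, g, hg, hy'⟩, ?_, hy⟩
      rw [Points.isOpen_iff]
      intro T' h
      obtain ⟨W', fst, sq⟩ := SchImg.exists_open_pullback hg h
      rw [show Points.ofPt h ⁻¹' Set.range (Points.map g) = (W' : Set T'.left) from
        Set.ext fun t => (SchImg.mem_open_iff sq t).symm]
      exact W'.2
    by_contra hxn
    obtain ⟨y, hy, hyc⟩ := nonempty_inter_closedPoints (Z := SLᶜ) ⟨x, hxn⟩ ho.isClosed_compl.isLocallyClosed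
    exact hy (hclosed y hyc)
  choose V g hg hmem using fun u : ↥U.left => hloc (Points.ofPt π u)
  refine exists_iso_yon_of_open_cover hX V g hg fun y => ?_
  obtain ⟨u, rfl⟩ := ofPt_surjective hπs y
  exact ⟨u, hmem u⟩

end Groth.Agent.FieldDesc
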