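import Groth.Agent.FieldDesc.Limit
import Groth.Agent.AlgSpLib.Glue
import Groth.Agent.AlgSpLib.SepAffine
import Groth.Agent.SpQS.UnivClosedQC
import Groth.Agent.AbsApprox.Chevalley
import Groth.Agent.S10411
import Groth.Prelude.Def_AlgSpMor5
import Mathlib

/-!
# Descending schemes along finite and algebraic field extensions
-/

set_option autoImplicit false
set_option linter.style.haveILetI false
set_option backward.isDefEq.respectTransparency false

universe u

open CategoryTheory CategoryTheory.Limits AlgebraicGeometry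

noncomputable section

namespace Groth.Agent.FieldDesc

open _root_.AlgSp Groth.Agent.AlgSpLib

section General

variable {S : Scheme.{u}}

/-- a representable universally injective morphism is injective on points -/
theorem injective_points_of_univInj {X Y : Sp S} {f : X ⟶ Y} (hf : RepWith @UniversallyInjective f) :
    Function.Injective (Points.map f) := by
  intro x y e
  obtain ⟨T, b, t, rfl⟩ := exists_ofPt x
  obtain ⟨T', b', t', rfl⟩ := exists_ofPt y
  rw [Points.map_ofPt, Points.map_ofPt] at e
  obtain ⟨K, α, β, z, comm, hα, hβ⟩ := exists_of_ofPt_eq e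
  obtain ⟨V, fst, snd, sq, hinj⟩ := exists_repWith hf ((yon S).map α ≫ b ≫ f)
  obtain ⟨s₁, hs₁⟩ := exists_map_eq (sq.lift ((yon S).map α ≫ b) (𝟙 _) (by rw [Category.assoc, Category.id_comp]))
  obtain ⟨s₂, hs₂⟩ := exists_map_eq (sq.lift ((yon S).map β ≫ b') (𝟙 _) (by rw [Category.assoc, Category.id_comp, comm]))
  have h₁ : s₁ ≫ snd = 𝟙 K := (yon S).map_injective (by rw [Functor.map_comp, hs₁, sq.lift_snd]; exact ((yon S).map_id K).symm)
  have h₂ : s₂ ≫ snd = 𝟙 K := (yon S).map_injective (by rw [Functor.map_comp, hs₂, sq.lift_snd]; exact ((yon S).map_id K).symm)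
  haveI : UniversallyInjective snd.left := hinj
  have hz : s₁.left z = s₂.left z := snd.left.injective (by
    rw [← Scheme.Hom.comp_apply, ← Scheme.Hom.comp_apply, ← Over.comp_left, ← Over.comp_left, h₁, h₂])
  rw [← hα, ← hβ, ← ofPt_comp, ← ofPt_comp,
    show (yon S).map α ≫ b = (yon S).map s₁ ≫ fst by rw [hs₁, sq.lift_fst],
    show (yon S).map β ≫ b' = (yon S).map s₂ ≫ fst by rw [hs₂, sq.lift_fst], ofPt_comp, ofPt_comp, hz]

/-- a space with a finite locally free cover having all fibres in affine opens is a scheme -/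
theorem exists_iso_yon_of_finLocFree {X Y : Sp S} (hX : IsAlgSpace X) (hY : IsAlgSpace Y) (f : X ⟶ Y)
    (hf : RepWith finLocFree f) (hs : RepWith @Surjective f)
    (h : ∀ y : Points Y, ∃ (U : Over S) (a : (yon S).obj U ⟶ X), IsAffine U.left ∧ RepWith @IsOpenImmersion a ∧
      Points.map f ⁻¹' {y} ⊆ Set.range (Points.ofPt a)) :
    ∃ W : Over S, Nonempty (Y ≅ (yon S).obj W) := by
  let Xs : Space S := ⟨X, hX⟩
  let Ys : Space S := ⟨Y, hY⟩
  let fs : Xs ⟶ Ys := ObjectProperty.homMk f
  have hloc : ∀ y : Points Y, ∃ (V : Over S) (g : (yon S).obj V ⟶ Y), RepWith @IsOpenImmersion g ∧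
      y ∈ Set.range (Points.map g) := fun y => by
    obtain ⟨Y', j, hj, hrep, z, hz⟩ := (S10411.result fs hf hs y).2 (h y)
    obtain ⟨V, ⟨e⟩⟩ := SpDesc.exists_yon_iso hrep
    refine ⟨V, e.hom ≫ j.hom, (repWith_iso_comp_iff e.hom _).2 hj, Points.map e.inv z, ?_⟩
    rw [← Points.map_comp, Iso.inv_hom_id_assoc]
    exact hz
  obtain ⟨U, π, -, hπ⟩ := hY.atlas
  choose V g hg hmem using fun u : ↥U.left => hloc (Points.ofPt π u)
  refine exists_iso_yon_of_open_cover hY V g hg fun y => ?_
  obtain ⟨u, rfl⟩ := ofPt_surjective hπ y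
  exact ⟨u, hmem u⟩

/-- in a scheme, a point lies in an affine open -/
theorem exists_affine_open_mem {X : Sp S} {T : Over S} (e : (yon S).obj T ≅ X) (x : Points X) :
    ∃ (U : Over S) (a : (yon S).obj U ⟶ X), IsAffine U.left ∧ RepWith @IsOpenImmersion a ∧
      x ∈ Set.range (Points.ofPt a) := by
  obtain ⟨v, hv⟩ := (Points.schemeEquiv T).surjective (Points.map e.inv x)
  obtain ⟨_, ⟨W, hW, rfl⟩, hvW, -⟩ :=
    T.left.isBasis_affineOpens.exists_subset_of_mem_open (Set.mem_univ v) isOpen_univ
  let i : Over.mk ((Scheme.Opens.ι (W : T.left.Opens)) ≫ T.hom) ⟶ T := Over.homMk (Scheme.Opens.ι (W : T.left.Opens)) rfl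
  refine ⟨Over.mk ((Scheme.Opens.ι (W : T.left.Opens)) ≫ T.hom), (yon S).map i ≫ e.hom, hW,
    repWith_comp ((repWith_yon_iff i).2 (inferInstanceAs (IsOpenImmersion (Scheme.Opens.ι (W : T.left.Opens)))))
      (repWith_of_isIso e.hom), ⟨v, hvW⟩, ?_⟩
  rw [ofPt_comp]
  show Points.ofPt e.hom v = x
  rw [Points.ofPt_eq_map_ofScheme, show Points.ofScheme T v = Points.map e.inv x from hv, ← Points.map_comp,
    Iso.inv_hom_id, Points.map_id]

end General

variable {k : Type u} [Field k] {X : Sp (Spec (CommRingCat.of k))}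

theorem repWith_fst_surjective (A : Type u) [CommRing A] [Algebra k A] [Nontrivial A] :
    RepWith @Surjective (Limits.prod.fst : bc X A ⟶ X) :=
  repWith_fst @Surjective X A ⟨fun x => ⟨(Classical.arbitrary (PrimeSpectrum A) : PrimeSpectrum A),
    (inferInstance : Subsingleton (PrimeSpectrum k)).elim _ _⟩⟩

theorem repWith_fst_finLocFree (A : Type u) [CommRing A] [Algebra k A] [Module.Finite k A] :
    RepWith finLocFree (Limits.prod.fst : bc X A ⟶ X) := by
  refine repWith_fst finLocFree X A ⟨?_, ?_, ?_⟩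
  · rw [IsFinite.SpecMap_iff]
    exact RingHom.finite_algebraMap.2 inferInstance
  · rw [HasRingHomProperty.Spec_iff (P := @Flat)]
    exact RingHom.flat_algebraMap_iff.2 inferInstance
  · rw [HasRingHomProperty.Spec_iff (P := @LocallyOfFinitePresentation)]
    haveI : Algebra.FiniteType k A := inferInstance
    exact RingHom.finitePresentation_algebraMap.2 (Algebra.FinitePresentation.of_finiteType.1 inferInstance)

theorem repWith_fst_univInj (L : Type u) [Field L] [Algebra k L] [IsPurelyInseparable k L] :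
    RepWith @UniversallyInjective (Limits.prod.fst : bc X L ⟶ X) := by
  refine repWith_fst @UniversallyInjective X L ?_
  refine (List.TFAE.out (tfae_universallyInjective (Spec.map (CommRingCat.ofHom (algebraMap k L)))) 0 1).mpr ?_
  intro K _ g₁ g₂ h
  obtain ⟨φ₁, rfl⟩ := Spec.map_surjective g₁
  obtain ⟨φ₂, rfl⟩ := Spec.map_surjective g₂
  simp only [← Spec.map_comp] at h
  have h' := congrArg CommRingCat.Hom.hom (Spec.map_injective h)
  rw [show φ₁ = φ₂ from CommRingCat.hom_ext (IsPurelyInseparable.injective_comp_algebraMap k L K h')]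

/-- a finite extension with a scheme base change and radicial: a scheme -/
theorem exists_iso_yon_of_finite_purelyInseparable (hX : IsAlgSpace X) (L : Type u) [Field L] [Algebra k L]
    [Module.Finite k L] [IsPurelyInseparable k L] {T : Over (Spec (CommRingCat.of k))}
    (e : (yon _).obj T ≅ bc X L) : ∃ W : Over (Spec (CommRingCat.of k)), Nonempty (X ≅ (yon _).obj W) := by
  refine exists_iso_yon_of_finLocFree (isAlgSpace_bc hX L) hX _ (repWith_fst_finLocFree L)
    (repWith_fst_surjective L) fun y => ?_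
  have hinj := injective_points_of_univInj (repWith_fst_univInj (X := X) L)
  obtain ⟨z, rfl⟩ := isSurjectiveMor_of_repWith (repWith_fst_surjective L) y
  obtain ⟨U, a, hU, ha, hz⟩ := exists_affine_open_mem e z
  exact ⟨U, a, hU, ha, fun w hw => (hinj (hw : _ = _)) ▸ hz⟩

/-- affineness descends along finite extensions -/
theorem exists_affine_of_finite (hX : IsAlgSpace X)
    (A : Type u) [CommRing A] [Algebra k A] [Nontrivial A] [Module.Finite k A] {T : Over (Spec (CommRingCat.of k))}
    [IsAffine T.left] (e : (yon _).obj T ≅ bc X A) :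
    ∃ W : Over (Spec (CommRingCat.of k)), IsAffine W.left ∧ Nonempty ((yon _).obj W ≅ X) := by
  obtain ⟨W, ⟨θ⟩⟩ := exists_iso_yon_of_finLocFree (isAlgSpace_bc hX A) hX _ (repWith_fst_finLocFree A)
    (repWith_fst_surjective A) fun y => ⟨T, e.hom, inferInstance, repWith_of_isIso e.hom, fun z _ => by
      obtain ⟨t, ht⟩ := (Points.schemeEquiv T).surjective (Points.map e.inv z)
      refine ⟨t, ?_⟩
      rw [Points.ofPt_eq_map_ofScheme, show Points.ofScheme T t = Points.map e.inv z from ht, ← Points.map_comp,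
        Iso.inv_hom_id, Points.map_id]⟩
  refine ⟨W, ?_, ⟨θ.symm⟩⟩
  obtain ⟨g, hg⟩ := exists_map_eq (e.hom ≫ Limits.prod.fst ≫ θ.hom)
  have hgr : ∀ (P : MorphismProperty Scheme.{u}) [P.IsStableUnderBaseChange],
      RepWith P (Limits.prod.fst : bc X A ⟶ X) → P g.left := fun P _ h => by
    have := (repWith_iso_comp_iff e.hom (Limits.prod.fst ≫ θ.hom)).2 ((repWith_comp_iso_iff (P := P) _ θ.hom).2 h)
    rw [← hg] at this
    exact (repWith_yon_iff g).1 this
  haveI : IsFinite g.left := (hgr finLocFree (repWith_fst_finLocFree A)).1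
  haveI : Surjective g.left := hgr @Surjective (repWith_fst_surjective A)
  haveI : CompactSpace W.left := g.left.surjective.compactSpace g.left.continuous
  haveI : W.left.IsSeparated := AbsApprox.isSeparated_of_surjective g.left
  exact AbsApprox.isAffine_of_integral_surjective g.left

/-- affineness descends along algebraic extensions -/
theorem exists_affine_of_algebraic (hX : IsAlgSpace X) (hs : IsQuasiSeparatedSp X) (L : Type u) [Field L]
    [Algebra k L] [Algebra.IsAlgebraic k L] {T : Over (Spec (CommRingCat.of k))} [IsAffine T.left]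
    (e : (yon _).obj T ≅ bc X L) :
    ∃ W : Over (Spec (CommRingCat.of k)), IsAffine W.left ∧ Nonempty ((yon _).obj W ≅ X) := by
  have hqL : IsQuasiCompactSp (bc X L) := SpDesc.qc_of_iso (isAlgSpace_bc hX L) (IsAlgSpace.yon_obj T) e.symm
    (isQuasiCompactSp_yon T)
  have hq : IsQuasiCompactSp X := isQuasiCompactSp_of_isSurjectiveMor hX _
    (isSurjectiveMor_of_repWith (repWith_fst_surjective L)) hqL
  let J := {E : IntermediateField k L // FiniteDimensional k E}
  haveI : Nonempty J := ⟨⟨⊥, inferInstance⟩⟩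
  haveI : IsDirectedOrder J := ⟨fun E F => by
    haveI := E.2
    haveI := F.2
    exact ⟨⟨E.1 ⊔ F.1, inferInstance⟩, (le_sup_left : E.1 ≤ E.1 ⊔ F.1), (le_sup_right : F.1 ≤ E.1 ⊔ F.1)⟩⟩
  obtain ⟨E, W, hW, ⟨θ⟩⟩ := exists_affine_stage (fun E : J => E.1.toSubalgebra) (fun E F h => h) (fun x => by
    refine ⟨⟨IntermediateField.adjoin k {x}, ?_⟩, IntermediateField.mem_adjoin_simple_self k x⟩
    exact IntermediateField.adjoin.finiteDimensional (Algebra.IsIntegral.isIntegral x)) hX hq hs e
  haveI := E.2
  haveI : Module.Finite k E.1.toSubalgebra := E.2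
  exact exists_affine_of_finite hX E.1.toSubalgebra θ

end Groth.Agent.FieldDesc
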