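import Groth.Agent.FieldDesc.Decent
import Groth.Agent.SpQS.SchOpen
import Groth.Agent.SpQS.DiagGood
import Groth.Prelude.Def_AlgSpGpd
import Mathlib

/-!
# Group spaces over a field become schemes over the algebraic closure
-/

set_option autoImplicit false
set_option linter.style.haveILetI false
set_option backward.isDefEq.respectTransparency false

universe u

open CategoryTheory CategoryTheory.Limits AlgebraicGeometry MonoidalCategory CartesianMonoidalCategory
open scoped CategoryTheory.MonObj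

noncomputable section

namespace Groth.Agent.FieldDesc

open _root_.AlgSp Groth.Agent.AlgSpLib TensorProduct

variable {k : Type u} [Field k]

/-- translation invariance: any field point of a group space lies in an open subscheme over a large field -/
theorem exists_affine_open_point (G : Over ((yon (Spec (CommRingCat.of k))).obj (Over.mk (𝟙 _)))) [GrpObj G]
    (Ω : Type u) [Field Ω] [Algebra k Ω] (g h : (yon _).obj (Ext (k := k) Ω) ⟶ G.left)
    {M : Over (Spec (CommRingCat.of k))} (f : (yon _).obj M ⟶ G.left) (hf : RepWith @IsOpenImmersion f)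
    (hmem : Points.ofPt h (IsLocalRing.closedPoint Ω) ∈ Set.range (Points.map f)) :
    ∃ (V : Over (Spec (CommRingCat.of k))) (v : (yon _).obj V ⟶ bc G.left Ω), RepWith @IsOpenImmersion v ∧
      Points.ofPt (Limits.prod.lift g (𝟙 _)) (IsLocalRing.closedPoint Ω) ∈ Set.range (Points.map v) := by
  let hT : IsTerminal ((yon (Spec (CommRingCat.of k))).obj (Over.mk (𝟙 _))) := Over.mkIdTerminal.isTerminalObj (yon _)
  let P : Over ((yon (Spec (CommRingCat.of k))).obj (Over.mk (𝟙 _))) := Over.mk (hT.from ((yon _).obj (Ext Ω)))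
  let g' : P ⟶ G := Over.homMk g (hT.hom_ext _ _)
  let h' : P ⟶ G := Over.homMk h (hT.hom_ext _ _)
  let B : Over ((yon (Spec (CommRingCat.of k))).obj (Over.mk (𝟙 _))) := Over.mk (hT.from (bc G.left Ω))
  let π₁ : B ⟶ G := Over.homMk Limits.prod.fst (hT.hom_ext _ _)
  let π₂ : B ⟶ P := Over.homMk Limits.prod.snd (hT.hom_ext _ _)
  let tr : (P ⟶ G) → (bc G.left Ω ⟶ bc G.left Ω) := fun c => Limits.prod.lift (π₂ ≫ c * π₁).left Limits.prod.snd
  have hπ : ∀ (c : P ⟶ G) {A : Over ((yon (Spec (CommRingCat.of k))).obj (Over.mk (𝟙 _)))} (t : A ⟶ B),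
      t.left ≫ (π₂ ≫ c * π₁).left = ((t ≫ π₂) ≫ c * t ≫ π₁).left := fun c A t => by
    rw [← Over.comp_left, MonObj.comp_mul, Category.assoc]
  have htr : ∀ c d : P ⟶ G, tr c ≫ tr d = tr (d * c) := fun c d => by
    let t : B ⟶ B := Over.homMk (tr c) (hT.hom_ext _ _)
    have e1 : t ≫ π₁ = π₂ ≫ c * π₁ := Over.OverMorphism.ext (Limits.prod.lift_fst _ _)
    have e2 : t ≫ π₂ = π₂ := Over.OverMorphism.ext (Limits.prod.lift_snd _ _)
    apply Limits.prod.hom_ext
    · show (tr c ≫ Limits.prod.lift _ _) ≫ Limits.prod.fst = Limits.prod.lift _ _ ≫ Limits.prod.fst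
      rw [Category.assoc, Limits.prod.lift_fst, Limits.prod.lift_fst]
      show t.left ≫ _ = _
      rw [hπ, e1, e2, MonObj.comp_mul, mul_assoc]
    · simp only [tr, Category.assoc, Limits.prod.lift_snd]
  have htr1 : tr 1 = 𝟙 _ := by
    apply Limits.prod.hom_ext
    · show Limits.prod.lift _ _ ≫ Limits.prod.fst = _
      rw [Limits.prod.lift_fst, MonObj.comp_one, one_mul, Category.id_comp]
      rfl
    · simp [tr]
  let c := g' * h'⁻¹
  haveI : IsIso (tr c) := ⟨tr c⁻¹, by rw [htr, inv_mul_cancel, htr1], by rw [htr, mul_inv_cancel, htr1]⟩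
  let j : bc ((yon _).obj M) Ω ⟶ bc G.left Ω := Limits.prod.map f (𝟙 _)
  have sq := isPullback_bc_of_mono f Ω
  have hj : RepWith @IsOpenImmersion j := repWith_baseChange sq.flip hf
  obtain ⟨V, ⟨θ⟩⟩ := SpDesc.isScheme_of_representable (f := (Limits.prod.fst : bc ((yon _).obj M) Ω ⟶ (yon _).obj M))
    (repWith_fst @IsAffineHom _ Ω (inferInstanceAs (IsAffineHom (Spec.map _)))).1
  refine ⟨V, θ.hom ≫ j ≫ tr c, (repWith_iso_comp_iff θ.hom _).2 ((repWith_comp_iso_iff j (tr c)).2 hj), ?_⟩
  obtain ⟨w, hw⟩ := hmem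
  obtain ⟨p, hp, -⟩ := exists_point_of_isPullback sq
    (Points.ofPt (Limits.prod.lift h (𝟙 _)) (IsLocalRing.closedPoint Ω)) w (by
      rw [Points.map_ofPt, Limits.prod.lift_fst, hw])
  refine ⟨Points.map θ.inv p, ?_⟩
  rw [← Points.map_comp, Iso.inv_hom_id_assoc, Points.map_comp, hp, Points.map_ofPt]
  congr 1
  let s : P ⟶ B := Over.homMk (Limits.prod.lift h (𝟙 _)) (hT.hom_ext _ _)
  have e1 : s ≫ π₁ = h' := Over.OverMorphism.ext (Limits.prod.lift_fst _ _)
  have e2 : s ≫ π₂ = 𝟙 P := Over.OverMorphism.ext (Limits.prod.lift_snd _ _)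
  apply Limits.prod.hom_ext
  · rw [Category.assoc, Limits.prod.lift_fst, Limits.prod.lift_fst]
    show s.left ≫ _ = g'.left
    rw [hπ, e1, e2, Category.id_comp]
    show (g' * h'⁻¹ * h').left = g'.left
    rw [inv_mul_cancel_right]
  · simp [tr]

variable {X : Sp (Spec (CommRingCat.of k))}

/-- an element that is not zero stays invertible at some rational point -/
theorem exists_rational_unit {K : Type u} [Field K] [IsAlgClosed K] (B : Type u) [CommRing B] [IsDomain B]
    [Algebra K B] [Algebra.FiniteType K B] {L : Type u} [Field L] [Algebra K L] {g : L ⊗[K] B} (hg : g ≠ 0) :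
    ∃ ρ : B →ₐ[K] K, Algebra.TensorProduct.map (AlgHom.id K L) ρ g ≠ 0 := by
  classical
  let bL := Module.Basis.ofVectorSpace K L
  let e := Algebra.TensorProduct.comm K L B
  let bb := bL.baseChange B
  have hne : bb.repr (e g) ≠ 0 := fun h => hg (e.injective (by
    rw [map_zero]
    exact bb.repr.injective (h.trans (map_zero _).symm)))
  obtain ⟨i, hi⟩ := Finsupp.ne_iff.1 hne
  rw [Finsupp.zero_apply] at hi
  let b := bb.repr (e g) i
  haveI : Nontrivial (Localization.Away b) := (IsLocalization.injective (M := Submonoid.powers b) _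
    (powers_le_nonZeroDivisors_of_noZeroDivisors hi)).nontrivial
  obtain ⟨m, hm⟩ := Ideal.exists_maximal (Localization.Away b)
  letI : Field (Localization.Away b ⧸ m) := Ideal.Quotient.field m
  haveI : Algebra.FiniteType B (Localization.Away b) := IsLocalization.finiteType_of_monoid_fg (Submonoid.powers b) _
  haveI : Algebra.FiniteType K (Localization.Away b) := Algebra.FiniteType.trans (R := K) (S := B) ‹_› ‹_›
  haveI : Algebra.FiniteType K (Localization.Away b ⧸ m) :=
    Algebra.FiniteType.of_surjective (Ideal.Quotient.mkₐ K m) Ideal.Quotient.mk_surjective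
  haveI : Module.Finite K (Localization.Away b ⧸ m) := finite_of_finite_type_of_isJacobsonRing K _
  let χ : Localization.Away b ⧸ m →ₐ[K] K := IsAlgClosed.lift
  let ρ : B →ₐ[K] K := χ.comp ((Ideal.Quotient.mkₐ K m).comp (IsScalarTower.toAlgHom K B (Localization.Away b)))
  have hb : IsUnit (ρ b) := ((IsLocalization.Away.algebraMap_isUnit b).map (Ideal.Quotient.mkₐ K m)).map χ
  refine ⟨ρ, fun h0 => hb.ne_zero ?_⟩
  have key : ∀ z : B ⊗[K] L, (bL.baseChange K).repr (Algebra.TensorProduct.map ρ (AlgHom.id K L) z) i =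
      ρ (bb.repr z i) := fun z => by
    induction z using TensorProduct.induction_on with
    | zero => simp
    | tmul x y => simp [bb, Algebra.smul_def]
    | add x y hx hy => simp only [map_add, Finsupp.add_apply, hx, hy]
  have h1 : ∀ z, Algebra.TensorProduct.map ρ (AlgHom.id K L) (e z) =
      Algebra.TensorProduct.comm K L K (Algebra.TensorProduct.map (AlgHom.id K L) ρ z) := fun z => by
    induction z using TensorProduct.induction_on with
    | zero => simp
    | tmul x y => simp [e]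
    | add x y hx hy => simp only [map_add, hx, hy]
  have := key (e g)
  rw [h1 g, h0, map_zero, map_zero, Finsupp.zero_apply] at this
  exact this.symm

/-- a point of a space over an algebraically closed extension has an affine neighbourhood if a lift to a
bigger field has one -/
theorem exists_scheme_nhd_of_ext (hX : IsAlgSpace X) (hs : IsQuasiSeparatedSp X) {K : Type u} [Field K] [Algebra k K]
    [IsAlgClosed K] {Ω : Type u} [Field Ω] [Algebra k Ω] [Algebra K Ω] [IsScalarTower k K Ω]
    {V : Over (Spec (CommRingCat.of k))} (v : (yon _).obj V ⟶ bc X Ω) (hv : RepWith @IsOpenImmersion v)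
    (z : Points (bc X Ω)) (hz : z ∈ Set.range (Points.map v)) :
    ∃ (V' : Over (Spec (CommRingCat.of k))) (g : (yon _).obj V' ⟶ bc X K), RepWith @IsOpenImmersion g ∧
      Points.map (bcMap X (IsScalarTower.toAlgHom k K Ω)) z ∈ Set.range (Points.map g) := by
  classical
  obtain ⟨J₀, G, jj, hG, hcov⟩ := exists_qc_cover hX hs
  let y := Points.map (bcMap X (IsScalarTower.toAlgHom k K Ω)) z
  obtain ⟨i, w, hw⟩ := hcov (Points.map Limits.prod.fst z)
  obtain ⟨hGa, hGq, hGs, hjo⟩ := hG i
  have sq := isPullback_bc_of_mono (jj i) Ω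
  obtain ⟨z', hz', -⟩ := exists_point_of_isPullback sq z w hw.symm
  have hj : RepWith @IsOpenImmersion (Limits.prod.map (jj i) (𝟙 ((yon _).obj (Ext Ω))) : bc (G i) Ω ⟶ bc X Ω) :=
    repWith_baseChange sq.flip hjo
  -- an affine open of the base change containing the lift
  obtain ⟨V₁, fst₁, snd₁, sq₁, -⟩ := exists_repWith hj v
  have hfst : RepWith @IsOpenImmersion fst₁ := repWith_baseChange sq₁.flip hv
  obtain ⟨x, hx⟩ := hz
  obtain ⟨r, hr, -⟩ := exists_point_of_isPullback sq₁ z' x (hz'.trans hx.symm)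
  obtain ⟨U, aU, hU, haU, hrU⟩ := exists_affine_open_mem (Iso.refl ((yon _).obj V₁)) r
  haveI : IsAffine U.left := hU
  let a : (yon _).obj U ⟶ bc (G i) Ω := aU ≫ fst₁
  have ha : RepWith @IsOpenImmersion a := repWith_comp haU hfst
  -- stage
  let J := {B : Subalgebra K Ω // B.FG}
  haveI : Nonempty J := ⟨⟨⊥, Subalgebra.fg_bot⟩⟩
  haveI : IsDirectedOrder J := ⟨fun B C => ⟨⟨B.1 ⊔ C.1, B.2.sup C.2⟩, (le_sup_left : B.1 ≤ B.1 ⊔ C.1), (le_sup_right : C.1 ≤ B.1 ⊔ C.1)⟩⟩
  haveI : IsCofiltered Jᵒᵖ := isCofiltered_op_of_isFiltered _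
  let A : J → Subalgebra k Ω := fun B => B.1.restrictScalars k
  have hA : Monotone A := fun B C h => h
  have hAU : ∀ x : Ω, ∃ B, x ∈ A B := fun x =>
    ⟨⟨Algebra.adjoin K {x}, by simpa using Subalgebra.fg_adjoin_finset (R := K) ({x} : Finset Ω)⟩,
      Algebra.subset_adjoin (Set.mem_singleton x)⟩
  obtain ⟨hl⟩ := nonempty_bcIsLimit A hA hAU (G i)
  obtain ⟨l, Vl, gl, hVl, hgl, hmem⟩ := exists_affine_open_stage (bcDiagram A hA (G i)) (fun j => isAlgSpace_bc hGa _)
    (fun i' j h => (isAffineMor_iff_repWith _).2 (repWith_bcMap @IsAffineHom _ (Subalgebra.inclusion (hA (leOfHom h.unop))) inferInstance))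
    (fun j => (qcqs_bc hGa hGq hGs _).1) (fun j => (qcqs_bc hGa hGq hGs _).2) (bcCone A hA (G i)) hl a ha
  let B : Subalgebra K Ω := l.unop.1
  haveI : Algebra.FiniteType K B := B.fg_iff_finiteType.1 l.unop.2
  let ιB : K →ₐ[k] (A l.unop) := (IsScalarTower.toAlgHom k K Ω).codRestrict (A l.unop) fun x => B.algebraMap_mem x
  obtain ⟨u, hu⟩ := hrU
  let zl := Points.map ((bcCone A hA (G i)).π.app l) z'
  have hzl : zl ∈ Set.range (Points.ofPt gl) := by
    have : Points.ofPt a u = z' := by
      show Points.ofPt (aU ≫ fst₁) u = z'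
      rw [← Points.map_ofPt, hu, hr]
    show Points.map _ z' ∈ _
    rw [← this]
    exact hmem u
  -- a field point over `K`
  let y₀ := Points.map (bcMap (G i) (IsScalarTower.toAlgHom k K Ω)) z'
  obtain ⟨L, _, _, b, hb⟩ : ∃ (L : Type u) (_ : Field L) (_ : Algebra k L) (b : (yon _).obj (Ext (k := k) L) ⟶ bc (G i) K),
      ∀ t : ↥(Ext (k := k) L).left, Points.ofPt b t = y₀ := by
    obtain ⟨T₀, b₀, t, ht⟩ := exists_ofPt y₀
    obtain ⟨φ, hφ⟩ := Spec.map_surjective (T₀.left.fromSpecResidueField t ≫ T₀.hom)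
    let L : Type u := T₀.left.residueField t
    letI : Algebra k L := φ.hom.toAlgebra
    let i₀ : Ext L ⟶ T₀ := Over.homMk (T₀.left.fromSpecResidueField t) hφ.symm
    refine ⟨L, inferInstance, inferInstance, (yon _).map i₀ ≫ b₀, fun z => ?_⟩
    rw [ofPt_comp, ← ht]
    exact congrArg (Points.ofPt b₀) (Scheme.fromSpecResidueField_apply t z)
  obtain ⟨bs, hbs⟩ := exists_map_eq (b ≫ Limits.prod.snd)
  obtain ⟨ψ, hψ⟩ := Spec.map_surjective bs.left
  have hψk : ψ.hom.comp (algebraMap k K) = algebraMap k L := by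
    have h := Over.w bs
    rw [← hψ] at h
    change Spec.map ψ ≫ Spec.map _ = Spec.map _ at h
    rw [← Spec.map_comp] at h
    exact congrArg CommRingCat.Hom.hom (Spec.map_injective h)
  letI : Algebra K L := ψ.hom.toAlgebra
  haveI : IsScalarTower k K L := IsScalarTower.of_algebraMap_eq' hψk.symm
  let pL : Ext (k := k) (L ⊗[K] B) ⟶ Ext L := extHom (Algebra.TensorProduct.includeLeft : L →ₐ[k] L ⊗[K] B)
  let qB : Ext (k := k) (L ⊗[K] B) ⟶ Ext (k := k) (A l.unop) :=
    extHom ((Algebra.TensorProduct.includeRight : B →ₐ[K] L ⊗[K] B).restrictScalars k)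
  have sqL : IsPullback ((yon _).map pL) ((yon _).map qB) (b ≫ Limits.prod.snd) ((yon _).map (extHom ιB)) := by
    rw [← hbs]
    refine AlgSpLib.isPullback_yon_iff.2 ?_
    show IsPullback (Spec.map _) (Spec.map _) bs.left (Spec.map _)
    rw [← hψ]
    exact isPullback_SpecMap_of_isPushout _ _ _ _ (CommRingCat.isPushout_tensorProduct K L B)
  let sqM := GeomPi0.isPullback_prod_map (G i) (extHom ιB)
  let lB : (yon _).obj (Ext (k := k) (L ⊗[K] B)) ⟶ bc (G i) (A l.unop) :=
    sqM.lift ((yon _).map pL ≫ b) ((yon _).map qB) (by rw [Category.assoc]; exact sqL.w)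
  have sqF : IsPullback ((yon _).map pL) lB b (bcMap (G i) ιB) := by
    refine IsPullback.of_bot ?_ (sqM.lift_fst _ _ _).symm sqM
    rw [sqM.lift_snd]
    exact sqL
  obtain ⟨w₀, -, hw₀⟩ := exists_point_of_isPullback sqF (Points.ofScheme (Ext L) (IsLocalRing.closedPoint L)) zl (by
    rw [← Points.ofPt_eq_map_ofScheme, hb]
    show _ = Points.map _ (Points.map (bcMap (G i) (A l.unop).val) z')
    rw [← Points.map_comp, bcMap, bcMap, Limits.prod.map_map, Category.comp_id, ← Functor.map_comp]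
    rw [show extHom (A l.unop).val ≫ extHom ιB = extHom (IsScalarTower.toAlgHom k K Ω) from
      Over.OverMorphism.ext (by
        show Spec.map _ ≫ Spec.map _ = Spec.map _
        rw [← Spec.map_comp]
        rfl)]
    rfl)
  obtain ⟨w₀, rfl⟩ := (Points.schemeEquiv (Ext (L ⊗[K] B))).surjective w₀
  obtain ⟨O, fst, sqO⟩ := SchImg.exists_open_pullback hgl lB
  have hw₀O : w₀ ∈ O := (SchImg.mem_open_iff sqO w₀).2 (by
    obtain ⟨v, hv⟩ := hzl
    refine ⟨Points.ofScheme Vl v, ?_⟩
    rw [← Points.ofPt_eq_map_ofScheme, hv, ← hw₀]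
    exact (Points.ofPt_eq_map_ofScheme _ _).symm)
  obtain ⟨_, ⟨gg, rfl⟩, hgw, hgO⟩ := (PrimeSpectrum.isTopologicalBasis_basic_opens (R := L ⊗[K] B)).exists_subset_of_mem_open hw₀O O.2
  have hgg : gg ≠ 0 := by rintro rfl; exact hgw (zero_mem _)
  obtain ⟨ρ, hρ⟩ := exists_rational_unit B hgg
  let ρk : (A l.unop) →ₐ[k] K := (ρ.restrictScalars k : B →ₐ[k] K)
  obtain ⟨V', fst', snd', sq', haff⟩ := exists_repWith (repWith_bcMap @IsAffineHom (G i) ρk inferInstance) gl
  -- the point at the rational point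
  let χ : L ⊗[K] B →ₐ[L] L := (Algebra.TensorProduct.rid K L L).toAlgHom.comp (Algebra.TensorProduct.map (AlgHom.id L L) ρ)
  let t : Ext (k := k) L ⟶ Ext (k := k) (L ⊗[K] B) := extHom (χ.restrictScalars k)
  have hχ : χ gg ≠ 0 := fun h => hρ ((Algebra.TensorProduct.rid K L L).injective (h.trans (map_zero _).symm))
  have ht : (yon _).map t ≫ lB = b ≫ bcMap (G i) ρk := by
    apply sqM.hom_ext
    · rw [Category.assoc, Category.assoc, sqM.lift_fst, ← Functor.map_comp_assoc]
      have h1 : t ≫ pL = 𝟙 _ := by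
        refine Over.OverMorphism.ext ?_
        show Spec.map _ ≫ Spec.map _ = 𝟙 _
        rw [← Spec.map_comp, ← Spec.map_id]
        congr 1
        ext x
        simp [χ]
      have h2 : bcMap (G i) ρk ≫ Limits.prod.map (𝟙 (G i)) ((yon _).map (extHom ιB)) = 𝟙 _ := by
        rw [bcMap, Limits.prod.map_map, Category.comp_id, ← Functor.map_comp]
        have : extHom ρk ≫ extHom ιB = 𝟙 _ := by
          refine Over.OverMorphism.ext ?_
          show Spec.map _ ≫ Spec.map _ = 𝟙 _
          rw [← Spec.map_comp, ← Spec.map_id]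
          congr 1
          ext x
          exact ρ.commutes x
        rw [this, CategoryTheory.Functor.map_id, Limits.prod.map_id_id]
      rw [h1, h2, CategoryTheory.Functor.map_id, Category.id_comp, Category.comp_id]
    · rw [Category.assoc, Category.assoc, sqM.lift_snd, bcMap, Limits.prod.map_snd, ← Category.assoc b, ← hbs,
        ← Functor.map_comp, ← Functor.map_comp]
      congr 1
      refine Over.OverMorphism.ext ?_
      show Spec.map _ ≫ Spec.map _ = bs.left ≫ Spec.map _
      rw [← hψ, ← Spec.map_comp, ← Spec.map_comp]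
      congr 1
      ext x
      show χ (1 ⊗ₜ[K] x) = ψ.hom (ρ x)
      simp [χ, Algebra.smul_def, RingHom.algebraMap_toAlgebra]
  have htO : t.left (IsLocalRing.closedPoint L) ∈ O := hgO (fun h => by
    have h' : χ gg ∈ IsLocalRing.maximalIdeal L := h
    rw [IsLocalRing.maximalIdeal_eq_bot] at h'
    exact hχ h')
  obtain ⟨x', hx'⟩ := (SchImg.mem_open_iff sqO _).1 htO
  obtain ⟨r', hr', -⟩ := exists_point_of_isPullback sq' y₀ x' (by
    rw [hx', ← ofPt_comp, ht, ← Points.map_ofPt, hb])
  haveI : IsAffineHom snd'.left := haff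
  refine ⟨V', fst' ≫ Limits.prod.map (jj i) (𝟙 _), repWith_comp (repWith_baseChange sq'.flip hgl)
    (repWith_baseChange (isPullback_bc_of_mono (jj i) K).flip hjo), r', ?_⟩
  rw [Points.map_comp, hr', ← Points.map_comp, ← hz', ← Points.map_comp]
  congr 1
  simp [bcMap, Limits.prod.map_map]

/-- group spaces -/
theorem exists_iso_yon_bc_group (G : Over ((yon (Spec (CommRingCat.of k))).obj (Over.mk (𝟙 _)))) [GrpObj G]
    (hG : IsAlgSpace G.left) (hsep : IsSeparatedSp G.left) (K : Type u) [Field K] [Algebra k K] [IsAlgClosed K] :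
    ∃ W : Over (Spec (CommRingCat.of k)), Nonempty (bc G.left K ≅ (yon _).obj W) := by
  have hs : IsQuasiSeparatedSp G.left := repWith_mono (P := @IsClosedImmersion) (Q := @QuasiCompact)
    (fun _ _ g hg => by have : IsClosedImmersion g := hg; infer_instance) hsep
  have hdec : IsDecent G.left := SpQS.isDecent_of_good hG (SpQS.goodAt_of_qsDiag hG hs)
  let hT : IsTerminal ((yon (Spec (CommRingCat.of k))).obj (Over.mk (𝟙 _))) := Over.mkIdTerminal.isTerminalObj (yon _)
  let e₀ : (yon _).obj (Over.mk (𝟙 (Spec (CommRingCat.of k)))) ⟶ G.left :=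
    (1 : Over.mk (𝟙 ((yon (Spec (CommRingCat.of k))).obj (Over.mk (𝟙 _)))) ⟶ G).left
  obtain ⟨M, f, hf, -, m, hm⟩ := SpQS.exists_schematic_open hG hdec isOpen_univ
    ⟨Points.ofPt e₀ (IsLocalRing.closedPoint k), trivial⟩
  obtain ⟨p, rfl⟩ := hm
  obtain ⟨m₀, rfl⟩ := (Points.schemeEquiv M).surjective p
  have hloc : ∀ y : Points (bc G.left K), ∃ (V : Over (Spec (CommRingCat.of k))) (g : (yon _).obj V ⟶ bc G.left K),
      RepWith @IsOpenImmersion g ∧ y ∈ Set.range (Points.map g) := fun y => by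
    obtain ⟨T₀, b₀, t, rfl⟩ := exists_ofPt y
    obtain ⟨φ, hφ⟩ := Spec.map_surjective (T₀.left.fromSpecResidueField t ≫ T₀.hom)
    let L : Type u := T₀.left.residueField t
    letI : Algebra k L := φ.hom.toAlgebra
    let i₀ : Ext L ⟶ T₀ := Over.homMk (T₀.left.fromSpecResidueField t) hφ.symm
    let b := (yon _).map i₀ ≫ b₀
    obtain ⟨φM, hφM⟩ := Spec.map_surjective (M.left.fromSpecResidueField m₀ ≫ M.hom)
    let N : Type u := M.left.residueField m₀
    letI : Algebra k N := φM.hom.toAlgebra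
    let iM : Ext N ⟶ M := Over.homMk (M.left.fromSpecResidueField m₀) hφM.symm
    haveI : Nontrivial (L ⊗[k] N) :=
      (Algebra.TensorProduct.includeRight_injective (R := k) (A := L) (B := N) (algebraMap k L).injective).nontrivial
    obtain ⟨mm, hmm⟩ := Ideal.exists_maximal (L ⊗[k] N)
    letI : Field ((L ⊗[k] N) ⧸ mm) := Ideal.Quotient.field mm
    let Ω := AlgebraicClosure ((L ⊗[k] N) ⧸ mm)
    let toΩ : L ⊗[k] N →ₐ[k] Ω := (IsScalarTower.toAlgHom k ((L ⊗[k] N) ⧸ mm) Ω).comp (Ideal.Quotient.mkₐ k mm)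
    let εL : L →ₐ[k] Ω := toΩ.comp Algebra.TensorProduct.includeLeft
    let εN : N →ₐ[k] Ω := toΩ.comp Algebra.TensorProduct.includeRight
    obtain ⟨bs, hbs⟩ := exists_map_eq (b ≫ Limits.prod.snd)
    obtain ⟨ψ, hψ⟩ := Spec.map_surjective bs.left
    have hψk : ψ.hom.comp (algebraMap k K) = algebraMap k L := by
      have h := Over.w bs
      rw [← hψ] at h
      change Spec.map ψ ≫ Spec.map _ = Spec.map _ at h
      rw [← Spec.map_comp] at h
      exact congrArg CommRingCat.Hom.hom (Spec.map_injective h)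
    letI : Algebra K Ω := (εL.toRingHom.comp ψ.hom).toAlgebra
    haveI : IsScalarTower k K Ω := IsScalarTower.of_algebraMap_eq' (by
      rw [RingHom.algebraMap_toAlgebra, RingHom.comp_assoc, hψk]
      exact εL.comp_algebraMap.symm)
    let g := (yon _).map (extHom εL) ≫ b ≫ Limits.prod.fst
    let h := (yon _).map (extHom εN ≫ iM) ≫ f
    obtain ⟨V, v, hv, hvm⟩ := exists_affine_open_point G Ω g h f hf (by
      refine ⟨Points.ofScheme M m₀, ?_⟩
      rw [← Points.ofPt_eq_map_ofScheme]
      show _ = Points.ofPt ((yon _).map (extHom εN ≫ iM) ≫ f) _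
      rw [ofPt_comp, Over.comp_left, Scheme.Hom.comp_apply]
      exact congrArg (Points.ofPt f) (Scheme.fromSpecResidueField_apply m₀ _).symm)
    obtain ⟨V', g', hg', hmem⟩ := exists_scheme_nhd_of_ext (K := K) hG hs v hv _ hvm
    refine ⟨V', g', hg', ?_⟩
    convert hmem using 1
    rw [Points.map_ofPt]
    have : Limits.prod.lift g (𝟙 _) ≫ bcMap G.left (IsScalarTower.toAlgHom k K Ω) = (yon _).map (extHom εL) ≫ b := by
      apply Limits.prod.hom_ext
      · simp [bcMap, g]
      · rw [Category.assoc, bcMap, Limits.prod.map_snd, Limits.prod.lift_snd_assoc, Category.id_comp, Category.assoc,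
          ← hbs, ← Functor.map_comp]
        congr 1
        refine Over.OverMorphism.ext ?_
        show Spec.map _ = Spec.map _ ≫ bs.left
        rw [← hψ, ← Spec.map_comp]
        rfl
    rw [this, ← Category.assoc, ← Functor.map_comp, ofPt_comp, Over.comp_left, Scheme.Hom.comp_apply]
    exact congrArg (Points.ofPt b₀) (Scheme.fromSpecResidueField_apply t _).symm
  obtain ⟨U, π, -, hπ⟩ := (isAlgSpace_bc hG K).atlas
  choose V g hg hmem using fun u : ↥U.left => hloc (Points.ofPt π u)
  refine exists_iso_yon_of_open_cover (isAlgSpace_bc hG K) V g hg fun y => ?_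
  obtain ⟨u, rfl⟩ := ofPt_surjective hπ y
  exact ⟨u, hmem u⟩

end Groth.Agent.FieldDesc
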