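import Groth.Agent.GeomPi0.Basic
import Groth.Agent.SpDesc.SchemeStage
import Mathlib

/-!
# Base change of algebraic spaces along unions of algebras over a field
-/

set_option autoImplicit false
set_option linter.style.haveILetI false
set_option backward.isDefEq.respectTransparency false

universe u

open CategoryTheory CategoryTheory.Limits AlgebraicGeometry

noncomputable section

namespace Groth.Agent.FieldDesc

open _root_.AlgSp Groth.Agent.AlgSpLib

variable {k : Type u} [Field k]

/-- the spectrum of an algebra over the ground field -/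
abbrev Ext (A : Type u) [CommRing A] [Algebra k A] : Over (Spec (CommRingCat.of k)) :=
  Over.mk (Spec.map (CommRingCat.ofHom (algebraMap k A)))

/-- the base change -/
abbrev bc (X : Sp (Spec (CommRingCat.of k))) (A : Type u) [CommRing A] [Algebra k A] :
    Sp (Spec (CommRingCat.of k)) :=
  X ⨯ (yon _).obj (Ext A)

/-- spectrum of an algebra map -/
def extHom {A B : Type u} [CommRing A] [CommRing B] [Algebra k A] [Algebra k B] (f : A →ₐ[k] B) :
    Ext (k := k) B ⟶ Ext (k := k) A :=
  Over.homMk (Spec.map (CommRingCat.ofHom f.toRingHom)) (by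
    show Spec.map _ ≫ Spec.map _ = Spec.map _
    rw [← Spec.map_comp]
    congr 1
    ext x
    exact f.commutes x)

@[simp] theorem extHom_left {A B : Type u} [CommRing A] [CommRing B] [Algebra k A] [Algebra k B] (f : A →ₐ[k] B) :
    (extHom f).left = Spec.map (CommRingCat.ofHom f.toRingHom) := rfl

instance {A B : Type u} [CommRing A] [CommRing B] [Algebra k A] [Algebra k B] (f : A →ₐ[k] B) :
    IsAffineHom (extHom f).left := inferInstanceAs (IsAffineHom (Spec.map _))

/-- the map of base changes -/
def bcMap (X : Sp (Spec (CommRingCat.of k))) {A B : Type u} [CommRing A] [CommRing B] [Algebra k A] [Algebra k B]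
    (f : A →ₐ[k] B) : bc X B ⟶ bc X A :=
  Limits.prod.map (𝟙 X) ((yon _).map (extHom f))

theorem isAlgSpace_bc {X : Sp (Spec (CommRingCat.of k))} (hX : IsAlgSpace X) (A : Type u) [CommRing A] [Algebra k A] :
    IsAlgSpace (bc X A) :=
  GeomPi0.isAlgSpace_prod hX _

theorem repWith_fst (P : MorphismProperty Scheme.{u}) [P.IsStableUnderBaseChange] (X : Sp (Spec (CommRingCat.of k)))
    (A : Type u) [CommRing A] [Algebra k A] (h : P (Spec.map (CommRingCat.ofHom (algebraMap k A)))) :
    RepWith P (Limits.prod.fst : bc X A ⟶ X) :=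
  repWith_baseChange (GeomPi0.isPullback_prod X (Ext A)).flip ((repWith_yon_iff _).2 h)

theorem repWith_bcMap (P : MorphismProperty Scheme.{u}) [P.IsStableUnderBaseChange] (X : Sp (Spec (CommRingCat.of k)))
    {A B : Type u} [CommRing A] [CommRing B] [Algebra k A] [Algebra k B] (f : A →ₐ[k] B) (h : P (extHom f).left) :
    RepWith P (bcMap X f) :=
  repWith_baseChange (GeomPi0.isPullback_prod_map X (extHom f)).flip ((repWith_yon_iff _).2 h)

theorem qcqs_bc {X : Sp (Spec (CommRingCat.of k))} (hX : IsAlgSpace X) (hq : IsQuasiCompactSp X)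
    (hs : IsQuasiSeparatedSp X) (A : Type u) [CommRing A] [Algebra k A] :
    IsQuasiCompactSp (bc X A) ∧ IsQuasiSeparatedSp (bc X A) :=
  SpDesc.qcqs_of_affine (isAlgSpace_bc hX A) hX
    (repWith_fst @IsAffineHom X A (inferInstanceAs (IsAffineHom (Spec.map _)))) hq hs

section Union

variable {J : Type u} [Preorder J] [IsDirectedOrder J] [Nonempty J] {L : Type u} [CommRing L] [Algebra k L]
  (A : J → Subalgebra k L) (hA : Monotone A) (hU : ∀ x : L, ∃ j, x ∈ A j)

/-- the algebras of the system -/
def ringFunctor : J ⥤ CommRingCat.{u} where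
  obj j := CommRingCat.of (A j)
  map h := CommRingCat.ofHom (Subalgebra.inclusion (hA (leOfHom h))).toRingHom

/-- the cocone of the union -/
def ringCocone : Cocone (ringFunctor A hA) where
  pt := CommRingCat.of L
  ι := { app := fun j => CommRingCat.ofHom (A j).val.toRingHom }

include hU in
/-- the union is the colimit -/
def ringIsColimit : IsColimit (ringCocone A hA) := by
  haveI : PreservesColimit (ringFunctor A hA) (forget CommRingCat.{u}) :=
    (inferInstance : PreservesFilteredColimits (forget CommRingCat.{u})).preserves_filtered_colimits _ |>.preservesColimit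
  haveI : ReflectsColimit (ringFunctor A hA) (forget CommRingCat.{u}) := reflectsColimit_of_reflectsIsomorphisms _ _
  refine isColimitOfReflects (forget CommRingCat.{u}) (Types.FilteredColimit.isColimitOf _ _ ?_ ?_)
  · intro x
    obtain ⟨j, hj⟩ := hU (show L from x)
    exact ⟨j, ⟨(show L from x), hj⟩, rfl⟩
  · intro i j x y h
    obtain ⟨m, him, hjm⟩ := directed_of (· ≤ ·) i j
    exact ⟨m, homOfLE him, homOfLE hjm, Subtype.ext h⟩

/-- the spectra over the ground field -/
def extDiagram : Jᵒᵖ ⥤ Over (Spec (CommRingCat.of k)) where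
  obj j := Ext (A j.unop)
  map {i j} h := extHom (Subalgebra.inclusion (hA (leOfHom h.unop)))
  map_id i := by
    refine Over.OverMorphism.ext ?_
    show Spec.map _ = 𝟙 _
    rw [← Spec.map_id]
    rfl
  map_comp {a b c} f g := by
    refine Over.OverMorphism.ext ?_
    show Spec.map _ = Spec.map _ ≫ Spec.map _
    rw [← Spec.map_comp]
    rfl

/-- their cone -/
def extCone : Cone (extDiagram A hA) where
  pt := Ext L
  π := { app := fun j => extHom (A j.unop).val
         naturality := fun {i j} h => by
           refine Over.OverMorphism.ext ?_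
           show 𝟙 _ ≫ Spec.map _ = Spec.map _ ≫ Spec.map _
           rw [Category.id_comp, ← Spec.map_comp]
           rfl }

include hU in
/-- which is a limit -/
def extIsLimit : IsLimit (extCone A hA) := by
  haveI : IsCofiltered Jᵒᵖ := isCofiltered_op_of_isFiltered _
  haveI : IsConnected Jᵒᵖ := IsCofiltered.isConnected _
  refine isLimitOfReflects (Over.forget _) ?_
  refine IsLimit.ofIsoLimit ((IsLimit.postcomposeHomEquiv
    (NatIso.ofComponents (fun j => Iso.refl _) (fun {i j} h => by
      show _ ≫ 𝟙 _ = 𝟙 _ ≫ _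
      rw [Category.comp_id, Category.id_comp]; rfl) :
        (ringFunctor A hA).op ⋙ Scheme.Spec ≅ extDiagram A hA ⋙ Over.forget _) _).symm
    (isLimitOfPreserves Scheme.Spec (ringIsColimit A hA hU).op)) (Cone.ext (Iso.refl _) fun j => ?_)
  show _ ≫ 𝟙 _ = 𝟙 _ ≫ _
  rw [Category.comp_id, Category.id_comp]
  rfl

variable (X : Sp (Spec (CommRingCat.of k)))

/-- the base changes of a space -/
def bcDiagram : Jᵒᵖ ⥤ Sp (Spec (CommRingCat.of k)) :=
  (extDiagram A hA ⋙ yon _) ⋙ Limits.prod.functor.obj X

/-- their cone -/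
def bcCone : Cone (bcDiagram A hA X) := (Limits.prod.functor.obj X).mapCone ((yon _).mapCone (extCone A hA))

include hU in
/-- which is a limit -/
theorem nonempty_bcIsLimit : Nonempty (IsLimit (bcCone A hA X)) := by
  classical
  haveI : IsCofiltered Jᵒᵖ := isCofiltered_op_of_isFiltered _
  have hy : IsLimit ((yon _).mapCone (extCone A hA)) := isLimitOfPreserves _ (extIsLimit A hA hU)
  let j₀ : Jᵒᵖ := Opposite.op (Classical.arbitrary J)
  let sn : ∀ s : Cone (bcDiagram A hA X), Cone (extDiagram A hA ⋙ yon _) := fun s =>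
    { pt := s.pt
      π :=
        { app := fun j => s.π.app j ≫ Limits.prod.snd
          naturality := fun {i j} h => by
            show 𝟙 _ ≫ _ = _ ≫ _
            rw [Category.id_comp, ← s.w h, Category.assoc, Category.assoc]
            exact congrArg (s.π.app i ≫ ·) (Limits.prod.map_snd _ _) } }
  have hfst : ∀ (s : Cone (bcDiagram A hA X)) (j : Jᵒᵖ),
      s.π.app j ≫ Limits.prod.fst = s.π.app j₀ ≫ Limits.prod.fst := fun s j => by
    obtain ⟨m, f, g, -⟩ := IsCofilteredOrEmpty.cone_objs j j₀
    have : ∀ {i : Jᵒᵖ} (h : m ⟶ i), s.π.app i ≫ Limits.prod.fst = s.π.app m ≫ Limits.prod.fst := fun {i} h => by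
      rw [← s.w h, Category.assoc]
      exact congrArg (s.π.app m ≫ ·) ((Limits.prod.map_fst _ _).trans (Category.comp_id _))
    rw [this f, this g]
  refine ⟨{ lift := fun s => Limits.prod.lift (s.π.app j₀ ≫ Limits.prod.fst) (hy.lift (sn s)), fac := fun s j => ?_, uniq := fun s m hm => ?_ }⟩
  · show _ ≫ Limits.prod.map (𝟙 X) _ = _
    apply Limits.prod.hom_ext
    · rw [Category.assoc, Limits.prod.map_fst, Category.comp_id, Limits.prod.lift_fst, ← hfst s j]
    · rw [Category.assoc, Limits.prod.map_snd, Limits.prod.lift_snd_assoc]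
      exact hy.fac (sn s) j
  · apply Limits.prod.hom_ext
    · rw [Limits.prod.lift_fst, ← hm j₀, Category.assoc]
      exact congrArg (m ≫ ·) ((Limits.prod.map_fst _ _).trans (Category.comp_id _)).symm
    · rw [Limits.prod.lift_snd]
      refine hy.uniq (sn s) _ fun j => ?_
      show _ = s.π.app j ≫ Limits.prod.snd
      rw [← hm j, Category.assoc, Category.assoc]
      exact congrArg (m ≫ ·) (Limits.prod.map_snd _ _).symm

variable {X}

include hA hU in
/-- if the base change to the union is a scheme, so is that to a stage -/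
theorem exists_representable_stage (hX : IsAlgSpace X) (hq : IsQuasiCompactSp X) (hs : IsQuasiSeparatedSp X)
    {T : Over (Spec (CommRingCat.of k))} (e : (yon _).obj T ≅ bc X L) :
    ∃ (j : J) (W : Over (Spec (CommRingCat.of k))), Nonempty (bc X (A j) ≅ (yon _).obj W) := by
  haveI : IsCofiltered Jᵒᵖ := isCofiltered_op_of_isFiltered _
  obtain ⟨hl⟩ := nonempty_bcIsLimit A hA hU X
  obtain ⟨j, W, hW⟩ := SpDesc.exists_representable_stage (bcDiagram A hA X) (fun j => isAlgSpace_bc hX _)
    (fun i j h => (isAffineMor_iff_repWith _).2 (repWith_bcMap @IsAffineHom X (Subalgebra.inclusion (hA (leOfHom h.unop))) inferInstance))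
    (fun j => (qcqs_bc hX hq hs _).1) (fun j => (qcqs_bc hX hq hs _).2) (bcCone A hA X) hl e
  exact ⟨j.unop, W, hW⟩

include hA hU in
/-- if the base change to the union is affine, so is that to a stage -/
theorem exists_affine_stage (hX : IsAlgSpace X) (hq : IsQuasiCompactSp X) (hs : IsQuasiSeparatedSp X)
    {T : Over (Spec (CommRingCat.of k))} [IsAffine T.left] (e : (yon _).obj T ≅ bc X L) :
    ∃ (j : J) (W : Over (Spec (CommRingCat.of k))), IsAffine W.left ∧ Nonempty ((yon _).obj W ≅ bc X (A j)) := by
  haveI : IsCofiltered Jᵒᵖ := isCofiltered_op_of_isFiltered _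
  obtain ⟨hl⟩ := nonempty_bcIsLimit A hA hU X
  let j₁ : Jᵒᵖ := Opposite.op (Classical.arbitrary J)
  obtain ⟨i₀, h⟩ := SpDesc.exists_affine_stage (bcDiagram A hA X) (fun j => isAlgSpace_bc hX _)
    (fun i j h => (isAffineMor_iff_repWith _).2 (repWith_bcMap @IsAffineHom X (Subalgebra.inclusion (hA (leOfHom h.unop))) inferInstance))
    (bcCone A hA X) hl j₁ (qcqs_bc hX hq hs _).1 (fun j => (qcqs_bc hX hq hs _).2) e
  obtain ⟨W, hW⟩ := h i₀ (𝟙 _)
  exact ⟨i₀.unop, W, hW⟩

end Union

end Groth.Agent.FieldDesc
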