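import Groth.Agent.FieldDesc.Finite
import Groth.Agent.AlgSpLib.Subspace
import Mathlib

/-!
# Schemes descend along purely inseparable field extensions
-/

set_option autoImplicit false
set_option linter.style.haveILetI false
set_option backward.isDefEq.respectTransparency false

universe u

open CategoryTheory CategoryTheory.Limits AlgebraicGeometry

noncomputable section

namespace Groth.Agent.FieldDesc

open _root_.AlgSp Groth.Agent.AlgSpLib

variable {k : Type u} [Field k] {X : Sp (Spec (CommRingCat.of k))}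

theorem isPullback_bc_of_mono {G : Sp (Spec (CommRingCat.of k))} (j : G ⟶ X) (A : Type u) [CommRing A] [Algebra k A] :
    IsPullback (Limits.prod.map j (𝟙 ((yon _).obj (Ext A))) : bc G A ⟶ bc X A) Limits.prod.fst Limits.prod.fst j := by
  refine IsPullback.of_isLimit' ⟨Limits.prod.map_fst _ _⟩
    (PullbackCone.IsLimit.mk _ (fun c => Limits.prod.lift c.snd (c.fst ≫ Limits.prod.snd)) (fun c => ?_) (fun c => ?_) ?_)
  · apply Limits.prod.hom_ext <;> simp [c.condition]
  · simp
  · intro c m h₁ h₂
    apply Limits.prod.hom_ext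
    · rw [Limits.prod.lift_fst, h₂]
    · rw [Limits.prod.lift_snd, ← h₁, Category.assoc, Limits.prod.map_snd, Category.comp_id]

theorem repWith_fst_univClosed (L : Type u) [Field L] [Algebra k L] [Algebra.IsAlgebraic k L] :
    RepWith @UniversallyClosed (Limits.prod.fst : bc X L ⟶ X) := by
  refine repWith_fst @UniversallyClosed X L ?_
  have : IsIntegralHom (Spec.map (CommRingCat.ofHom (algebraMap k L))) := by
    rw [IsIntegralHom.SpecMap_iff]
    exact algebraMap_isIntegral_iff.2 inferInstance
  infer_instance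

/-- the base change of an open subspace to an extension, identified with an affine open -/
theorem exists_subspace_of_radicial (hX : IsAlgSpace X) (L : Type u) [Field L] [Algebra k L]
    [IsPurelyInseparable k L] {U : Over (Spec (CommRingCat.of k))} (a : (yon _).obj U ⟶ bc X L)
    (ha : RepWith @IsOpenImmersion a) :
    ∃ W : Set (Points X), IsOpen W ∧ (∀ z, Points.map Limits.prod.fst (Points.ofPt a z) ∈ W) ∧
      Nonempty ((yon _).obj U ≅ bc (subSheaf W) L) := by
  haveI : Algebra.IsAlgebraic k L := inferInstance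
  let q : bc X L ⟶ X := Limits.prod.fst
  have hq : RepWith @UniversallyClosed q := repWith_fst_univClosed L
  have hclosed : IsClosedMap (Points.map q) :=
    ((isUnivClosedMor_iff_repWith hq.1).2 hq) hX (𝟙 X) (𝟙 _) q (IsPullback.id_horiz q)
  have hbij : Function.Bijective (Points.map q) :=
    ⟨injective_points_of_univInj (repWith_fst_univInj L), isSurjectiveMor_of_repWith (repWith_fst_surjective L)⟩
  let W : Set (Points X) := Points.map q '' Set.range (Points.map a)
  have hRo : IsOpen (Set.range (Points.map a)) := by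
    rw [Points.isOpen_iff]
    intro T' g
    obtain ⟨W', fst, sq⟩ := SchImg.exists_open_pullback ha g
    rw [show Points.ofPt g ⁻¹' Set.range (Points.map a) = (W' : Set T'.left) from
      Set.ext fun t => (SchImg.mem_open_iff sq t).symm]
    exact W'.2
  have hW : IsOpen W := by
    rw [← isClosed_compl_iff, ← Set.image_compl_eq hbij]
    exact hclosed _ hRo.isClosed_compl
  refine ⟨W, hW, fun z => ⟨Points.ofPt a z, ⟨Points.ofScheme U z, (Points.ofPt_eq_map_ofScheme a z).symm⟩, rfl⟩, ?_⟩
  let j : bc (subSheaf W) L ⟶ bc X L := Limits.prod.map (subInc W) (𝟙 _)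
  have sq := isPullback_bc_of_mono (subInc W) L
  have hj : RepWith @IsOpenImmersion j := repWith_baseChange sq.flip (repWith_subInc hW)
  haveI : Mono j := mono_of_repWith_immersion (repWith_mono (P := @IsOpenImmersion) (Q := @IsImmersion)
    (fun _ _ g hg => have : IsOpenImmersion g := hg; inferInstance) hj)
  haveI : Mono a := mono_of_repWith_immersion (repWith_mono (P := @IsOpenImmersion) (Q := @IsImmersion)
    (fun _ _ g hg => have : IsOpenImmersion g := hg; inferInstance) ha)
  have hG := isAlgSpace_bc (isAlgSpace_subSheaf hX hW) L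
  obtain ⟨v, hv⟩ := (exists_factor_iff hG (isAlgSpace_bc hX L) j hj a).2 (by
    rintro _ ⟨z, rfl⟩
    obtain ⟨w, hw⟩ : Points.map q (Points.map a z) ∈ Set.range (Points.map (subInc W)) := by
      rw [range_subInc]
      exact ⟨_, ⟨z, rfl⟩, rfl⟩
    obtain ⟨p, hp, -⟩ := exists_point_of_isPullback sq _ w hw.symm
    exact ⟨p, hp⟩)
  obtain ⟨v', hv'⟩ := (exists_factor_iff (IsAlgSpace.yon_obj U) (isAlgSpace_bc hX L) a ha j).2 (by
    rintro _ ⟨p, rfl⟩
    have h : Points.map q (Points.map j p) ∈ W := by
      rw [← Points.map_comp, show j ≫ q = Limits.prod.fst ≫ subInc W from sq.w, Points.map_comp]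
      exact map_subInc_mem _
    obtain ⟨r, hr, he⟩ := h
    exact hbij.1 he ▸ hr)
  exact ⟨⟨v, v', (cancel_mono a).1 (by rw [Category.assoc, hv', hv, Category.id_comp]),
    (cancel_mono j).1 (by rw [Category.assoc, hv, hv', Category.id_comp])⟩⟩

/-- purely inseparable descent -/
theorem exists_iso_yon_of_purelyInseparable (hX : IsAlgSpace X) (L : Type u) [Field L] [Algebra k L]
    [IsPurelyInseparable k L] {T : Over (Spec (CommRingCat.of k))}
    (e : (yon _).obj T ≅ bc X L) : ∃ W : Over (Spec (CommRingCat.of k)), Nonempty (X ≅ (yon _).obj W) := by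
  haveI : Algebra.IsAlgebraic k L := inferInstance
  have hloc : ∀ x : Points X, ∃ (V : Over (Spec (CommRingCat.of k))) (g : (yon _).obj V ⟶ X),
      RepWith @IsOpenImmersion g ∧ x ∈ Set.range (Points.map g) := fun x => by
    obtain ⟨z, rfl⟩ := isSurjectiveMor_of_repWith (repWith_fst_surjective L) x
    obtain ⟨U, a, hU, ha, z', rfl⟩ := exists_affine_open_mem e z
    obtain ⟨W, hW, hmem, ⟨θ⟩⟩ := exists_subspace_of_radicial hX L a ha
    have hWs := isAlgSpace_subSheaf hX hW
    have hsep : IsQuasiSeparatedSp (subSheaf W) := by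
      have hq := repWith_fst_univClosed (X := subSheaf W) L
      haveI : IsAffine U.left := hU
      have hqU : IsQuasiSeparatedSp ((yon _).obj U) :=
        (repWith_diag_yon_iff @QuasiCompact U).2 (inferInstanceAs (QuasiCompact (pullback.diagonal U.hom)))
      refine (SpQS.isQuasiSeparatedSp_iff_mor (SpQS.baseStr _)).2
        ((SpQS.diagonal_qs_of_surjective (isAlgSpace_bc hWs L) hWs (IsAlgSpace.yon_obj _) _ (SpQS.baseStr _) _
          (SpQS.isTerminalBase.hom_ext _ _) (isSurjectiveMor_of_repWith (repWith_fst_surjective L))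
          ((isUnivClosedMor_iff_repWith hq.1).2 hq)).1 ((SpQS.isQuasiSeparatedSp_iff_mor _).1 (SpDesc.qs_of_iso θ.symm hqU)))
    haveI : IsAffine U.left := hU
    obtain ⟨V, -, ⟨φ⟩⟩ := exists_affine_of_algebraic hWs hsep L θ
    refine ⟨V, φ.hom ≫ subInc W, (repWith_iso_comp_iff φ.hom _).2 (repWith_subInc hW), ?_⟩
    obtain ⟨w, hw⟩ : Points.map Limits.prod.fst (Points.ofPt a z') ∈ Set.range (Points.map (subInc W)) := by
      rw [range_subInc]; exact hmem z'
    exact ⟨Points.map φ.inv w, by rw [← Points.map_comp, Iso.inv_hom_id_assoc, hw]⟩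
  obtain ⟨U, π, -, hπ⟩ := hX.atlas
  choose V g hg hmem using fun u : ↥U.left => hloc (Points.ofPt π u)
  refine exists_iso_yon_of_open_cover hX V g hg fun y => ?_
  obtain ⟨u, rfl⟩ := ofPt_surjective hπ y
  exact ⟨u, hmem u⟩

theorem isRepresentable_of_iso {S : Scheme.{u}} {F : Sp S} {W : Over S} (e : F ≅ (yon S).obj W) :
    F.obj.IsRepresentable := by
  have h : ((yon S).obj W).obj.IsRepresentable :=
    ⟨W, ⟨{ homEquiv := fun {T} => Equiv.ulift.symm, homEquiv_comp := fun _ _ => rfl }⟩⟩
  obtain ⟨V, ⟨hV⟩⟩ := h.has_representation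
  exact ⟨V, ⟨hV.ofIso ((sheafToPresheaf _ _).mapIso e.symm)⟩⟩

end Groth.Agent.FieldDesc
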