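import Groth.Agent.FieldDesc.Radicial
import Mathlib

/-!
# Specialising scheme base changes to finite extensions
-/

set_option autoImplicit false
set_option linter.style.haveILetI false
set_option backward.isDefEq.respectTransparency false

universe u

open CategoryTheory CategoryTheory.Limits AlgebraicGeometry

noncomputable section

namespace Groth.Agent.FieldDesc

open _root_.AlgSp Groth.Agent.AlgSpLib

variable {k : Type u} [Field k] {X : Sp (Spec (CommRingCat.of k))}

/-- scheme base changes are preserved by further base change -/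
theorem exists_iso_yon_bc_map {A B : Type u} [CommRing A] [CommRing B] [Algebra k A] [Algebra k B] (f : A →ₐ[k] B)
    {T : Over (Spec (CommRingCat.of k))} (e : (yon _).obj T ≅ bc X A) :
    ∃ T' : Over (Spec (CommRingCat.of k)), Nonempty ((yon _).obj T' ≅ bc X B) :=
  SpDesc.isScheme_of_representable (f := bcMap X f ≫ e.inv)
    ((repWith_comp_iso_iff (P := @IsAffineHom) _ e.inv).2 (repWith_bcMap @IsAffineHom X f inferInstance)).1

/-- base change of a subspace -/
theorem exists_iso_yon_bc_subspace {G : Sp (Spec (CommRingCat.of k))} (j : G ⟶ X) (hj : Representable j)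
    {A : Type u} [CommRing A] [Algebra k A]
    {T : Over (Spec (CommRingCat.of k))} (e : (yon _).obj T ≅ bc X A) :
    ∃ T' : Over (Spec (CommRingCat.of k)), Nonempty ((yon _).obj T' ≅ bc G A) := by
  have h : RepWith ⊤ (Limits.prod.map j (𝟙 ((yon _).obj (Ext A))) : bc G A ⟶ bc X A) :=
    repWith_baseChange (isPullback_bc_of_mono j A).flip ⟨hj, fun _ _ _ _ _ _ => trivial⟩
  exact SpDesc.isScheme_of_representable ((repWith_comp_iso_iff (P := (⊤ : MorphismProperty Scheme.{u})) _ e.inv).2 h).1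

/-- finitely generated stage -/
theorem exists_fg_stage (hX : IsAlgSpace X) (hq : IsQuasiCompactSp X) (hs : IsQuasiSeparatedSp X)
    (L : Type u) [CommRing L] [Algebra k L] {T : Over (Spec (CommRingCat.of k))} (e : (yon _).obj T ≅ bc X L) :
    ∃ (B : Subalgebra k L), B.FG ∧ ∃ T' : Over (Spec (CommRingCat.of k)), Nonempty ((yon _).obj T' ≅ bc X B) := by
  let J := {B : Subalgebra k L // B.FG}
  haveI : Nonempty J := ⟨⟨⊥, Subalgebra.fg_bot⟩⟩
  haveI : IsDirectedOrder J := ⟨fun B C => ⟨⟨B.1 ⊔ C.1, B.2.sup C.2⟩, (le_sup_left : B.1 ≤ B.1 ⊔ C.1), (le_sup_right : C.1 ≤ B.1 ⊔ C.1)⟩⟩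
  obtain ⟨B, W, ⟨θ⟩⟩ := exists_representable_stage (fun B : J => B.1) (fun B C h => h) (fun x =>
    ⟨⟨Algebra.adjoin k {x}, by simpa using Subalgebra.fg_adjoin_finset (R := k) ({x} : Finset L)⟩,
      Algebra.subset_adjoin (Set.mem_singleton x)⟩) hX hq hs e
  exact ⟨B.1, B.2, W, ⟨θ.symm⟩⟩

/-- specialisation to a finite extension -/
theorem exists_finite_field_stage (hX : IsAlgSpace X) (hq : IsQuasiCompactSp X) (hs : IsQuasiSeparatedSp X)
    (L : Type u) [CommRing L] [Nontrivial L] [Algebra k L] {T : Over (Spec (CommRingCat.of k))}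
    (e : (yon _).obj T ≅ bc X L) :
    ∃ (κ : Type u) (_ : Field κ) (_ : Algebra k κ), Module.Finite k κ ∧
      ∃ T' : Over (Spec (CommRingCat.of k)), Nonempty ((yon _).obj T' ≅ bc X κ) := by
  obtain ⟨B, hB, T', ⟨e'⟩⟩ := exists_fg_stage hX hq hs L e
  haveI : Algebra.FiniteType k B := B.fg_iff_finiteType.1 hB
  obtain ⟨m, hm⟩ := Ideal.exists_maximal B
  letI : Field (B ⧸ m) := Ideal.Quotient.field m
  haveI : Algebra.FiniteType k (B ⧸ m) := Algebra.FiniteType.of_surjective (Ideal.Quotient.mkₐ k m) Ideal.Quotient.mk_surjective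
  obtain ⟨T'', hT''⟩ := exists_iso_yon_bc_map (Ideal.Quotient.mkₐ k m) e'
  exact ⟨B ⧸ m, inferInstance, inferInstance, finite_of_finite_type_of_isJacobsonRing k (B ⧸ m), T'', hT''⟩

/-- specialisation to an algebraic closure -/
theorem exists_iso_yon_bc_algClosed (hX : IsAlgSpace X) (hq : IsQuasiCompactSp X) (hs : IsQuasiSeparatedSp X)
    (L : Type u) [CommRing L] [Nontrivial L] [Algebra k L] {T : Over (Spec (CommRingCat.of k))}
    (e : (yon _).obj T ≅ bc X L) (Ω : Type u) [Field Ω] [Algebra k Ω] [IsAlgClosed Ω] :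
    ∃ T' : Over (Spec (CommRingCat.of k)), Nonempty ((yon _).obj T' ≅ bc X Ω) := by
  obtain ⟨κ, _, _, _, T', ⟨e'⟩⟩ := exists_finite_field_stage hX hq hs L e
  haveI : Algebra.IsAlgebraic k κ := inferInstance
  exact exists_iso_yon_bc_map (IsAlgClosed.lift : κ →ₐ[k] Ω) e'

/-- radicial finite extensions in a tower -/
theorem exists_iso_yon_bc_of_radicial (hX : IsAlgSpace X) (K L : Type u) [Field K] [Field L] [Algebra k K] [Algebra k L]
    [Algebra K L] [IsScalarTower k K L] [Module.Finite K L] [IsPurelyInseparable K L]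
    {T : Over (Spec (CommRingCat.of k))} (e : (yon _).obj T ≅ bc X L) :
    ∃ W : Over (Spec (CommRingCat.of k)), Nonempty (bc X K ≅ (yon _).obj W) := by
  let f : K →ₐ[k] L := IsScalarTower.toAlgHom k K L
  have hl : (extHom f).left = Spec.map (CommRingCat.ofHom (algebraMap K L)) := rfl
  have h1 : RepWith finLocFree (bcMap X f) := by
    refine repWith_bcMap finLocFree X f ?_
    rw [hl]
    refine ⟨?_, ?_, ?_⟩
    · rw [IsFinite.SpecMap_iff]
      exact RingHom.finite_algebraMap.2 inferInstance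
    · rw [HasRingHomProperty.Spec_iff (P := @Flat)]
      exact RingHom.flat_algebraMap_iff.2 inferInstance
    · rw [HasRingHomProperty.Spec_iff (P := @LocallyOfFinitePresentation)]
      exact RingHom.finitePresentation_algebraMap.2 (Algebra.FinitePresentation.of_finiteType.1 inferInstance)
  have h2 : RepWith @Surjective (bcMap X f) := by
    refine repWith_bcMap @Surjective X f ?_
    rw [hl]
    exact ⟨fun x => ⟨(IsLocalRing.closedPoint L : PrimeSpectrum L), (inferInstance : Subsingleton (PrimeSpectrum K)).elim _ _⟩⟩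
  have h3 : RepWith @UniversallyInjective (bcMap X f) := by
    refine repWith_bcMap @UniversallyInjective X f ?_
    rw [hl]
    refine (List.TFAE.out (tfae_universallyInjective (Spec.map (CommRingCat.ofHom (algebraMap K L)))) 0 1).mpr ?_
    intro F _ g₁ g₂ h
    obtain ⟨φ₁, rfl⟩ := Spec.map_surjective g₁
    obtain ⟨φ₂, rfl⟩ := Spec.map_surjective g₂
    simp only [← Spec.map_comp] at h
    have h' := congrArg CommRingCat.Hom.hom (Spec.map_injective h)
    rw [show φ₁ = φ₂ from CommRingCat.hom_ext (IsPurelyInseparable.injective_comp_algebraMap K L F h')]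
  refine exists_iso_yon_of_finLocFree (isAlgSpace_bc hX L) (isAlgSpace_bc hX K) _ h1 h2 fun y => ?_
  obtain ⟨z, rfl⟩ := isSurjectiveMor_of_repWith h2 y
  obtain ⟨U, a, hU, ha, hz⟩ := exists_affine_open_mem e z
  exact ⟨U, a, hU, ha, fun w hw => (injective_points_of_univInj h3 (hw : _ = _)) ▸ hz⟩

/-- quasi-compact open subspaces cover a quasi-separated space -/
theorem exists_qc_cover (hX : IsAlgSpace X) (hs : IsQuasiSeparatedSp X) :
    ∃ (ι : Type u) (G : ι → Sp (Spec (CommRingCat.of k))) (j : ∀ i, G i ⟶ X),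
      (∀ i, IsAlgSpace (G i) ∧ IsQuasiCompactSp (G i) ∧ IsQuasiSeparatedSp (G i) ∧ RepWith @IsOpenImmersion (j i)) ∧
      ∀ x, ∃ i, x ∈ Set.range (Points.map (j i)) := by
  obtain ⟨U, p, ι, Z, he, hp, hZ, -, hcov⟩ := exists_affine_chart_family hX
  let W : ι → Set (Points X) := fun i => Points.ofPt p '' (Z i : Set U.left)
  have hW : ∀ i, IsOpen (W i) := fun i => isOpenMap_ofPt (repWith_universallyOpen_of_etale he) _ (Z i).2
  refine ⟨ι, fun i => subSheaf (W i), fun i => subInc (W i), fun i => ⟨isAlgSpace_subSheaf hX (hW i), ?_, ?_,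
    repWith_subInc (hW i)⟩, fun x => ?_⟩
  · let Zi : Over (Spec (CommRingCat.of k)) := Over.mk ((Z i).ι ≫ U.hom)
    haveI : IsAffine Zi.left := hZ i
    obtain ⟨g, hg⟩ := exists_subInc_lift (W := W i)
      ((yon _).map (Over.homMk (Z i).ι rfl : Zi ⟶ U) ≫ p) (fun t => by rw [ofPt_comp]; exact ⟨_, t.2, rfl⟩)
    refine isQuasiCompactSp_of_isSurjectiveMor (isAlgSpace_subSheaf hX (hW i)) g ?_ (isQuasiCompactSp_yon Zi)
    intro w
    obtain ⟨v, hv, hvw⟩ := map_subInc_mem w
    refine ⟨Points.ofScheme Zi ⟨v, hv⟩, SpQS.injective_points_of_mono (subInc (W i)) ?_⟩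
    rw [← Points.ofPt_eq_map_ofScheme, Points.map_ofPt, hg, ofPt_comp]
    exact hvw
  · exact isQuasiSeparatedSp_of_mor
      (ValLib.isQuasiSeparatedMor_of_separated _ (UnivInjMor.isSeparatedMor_of_mono (subInc (W i)))) hs
  · obtain ⟨u, rfl⟩ := ofPt_surjective hp x
    obtain ⟨i, hi⟩ := hcov u
    exact ⟨i, by rw [range_subInc]; exact ⟨u, hi, rfl⟩⟩

end Groth.Agent.FieldDesc
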